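import Cfsg.Agent.Omega.FFTwoA.Four
import Mathlib
import Mathlib.GroupTheory.Index
import Mathlib.GroupTheory.QuotientGroup.Finite
import Cfsg.Agent.ZN.Block
import Cfsg.Agent.ZN.Map
import Cfsg.Agent.Involutions.BaerSuzuki

-- merged: Cfsg.Agent.Omega.FFTwoA.Line
section

/-!
# FF-2a (7): the case `Z(O z) = {1, z, d, z d}`, local facts

bb OMEGA #12472 (helper9), (N1)-(N3), (F1), in the version `W = Q` of `Main`.
-/

set_option autoImplicit false

namespace Cfsg.Agent.Omega.FFTwoA.Line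

open Cfsg.Agent.Omega.FFTwoA.Main Cfsg.Agent.Omega.FFTwoA.Four

variable {G : Type*} [Group G] {O : G → Subgroup G} {z a d : G}

/-- The configuration with `Z(O z) = {1, z, d, z d}` elementary of order `4`. -/
structure Lin (O : G → Subgroup G) (z a d : G) : Prop extends Cfg O z a where
  dD : Dp O z d
  dq : d * d = 1
  d1 : d ≠ 1
  dz : d ≠ z
  four : ∀ x, Dp O z x → x = 1 ∨ x = z ∨ x = d ∨ x = z * d
  nt : ∀ s, s * z = z * s → (∀ q ∈ O z, Dp O z (q * s * q⁻¹ * s⁻¹)) → s ∈ O z

theorem Lin.conj (h : Lin O z a d) (g : G) :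
    Lin O (MulAut.conj g z) (MulAut.conj g a) (MulAut.conj g d) := by
  have inj := (MulAut.conj g).injective
  refine ⟨h.toCfg.conj g, (h.eqv.dp_iff g z d).2 h.dD, ?_, ?_, ?_, ?_, ?_⟩
  · rw [← map_mul, h.dq, map_one]
  · rw [ne_eq, map_eq_one_iff _ inj]; exact h.d1
  · rw [ne_eq, inj.eq_iff]; exact h.dz
  · intro x hx
    obtain ⟨x, rfl⟩ := (MulAut.conj g).surjective x
    rw [← map_mul, inj.eq_iff, inj.eq_iff, inj.eq_iff, map_eq_one_iff _ inj]
    exact h.four x ((h.eqv.dp_iff g z x).1 hx)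
  · intro s hs hq
    obtain ⟨s, rfl⟩ := (MulAut.conj g).surjective s
    rw [h.eqv.mem_iff]
    rw [← map_mul, ← map_mul, inj.eq_iff] at hs
    refine h.nt s hs fun q hqO => ?_
    have := hq _ ((h.eqv.mem_iff g z q).2 hqO)
    rwa [← map_mul, ← map_inv, ← map_mul, ← map_inv, ← map_mul, h.eqv.dp_iff] at this

/-- non-central elements of `D_z`: another choice of `d` -/
theorem Lin.change (h : Lin O z a d) {x : G} (hx : Dp O z x) (h1 : x ≠ 1) (hz : x ≠ z) :
    Lin O z a x := by
  have hdz : d * z = z * d := h.comm d h.dD.1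
  rcases h.four x hx with k | k | k | k
  · exact absurd k h1
  · exact absurd k hz
  · rw [k]; exact h
  · refine ⟨h.toCfg, hx, ?_, h1, hz, ?_, h.nt⟩
    · rw [k]
      calc z * d * (z * d) = z * (d * z) * d := by group
        _ = z * z * (d * d) := by rw [hdz]; group
        _ = 1 := by rw [h.zz, h.dq, one_mul]
    · intro y hy
      rcases h.four y hy with e | e | e | e
      · exact Or.inl e
      · exact Or.inr (Or.inl e)
      · right; right; right
        rw [k, ← mul_assoc, h.zz, one_mul]; exact e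
      · right; right; left
        rw [k]; exact e

theorem Lin.swap (h : Lin O z a d) : Lin O z (z * a) d := by
  exact ⟨h.toCfg.swap, h.dD, h.dq, h.d1, h.dz, h.four, h.nt⟩

/-- transport to another point of `V` -/
theorem Lin.pt (h : Lin O z a d) {g x : G} {z' a' : G} (hz : MulAut.conj g z = z')
    (ha : MulAut.conj g a = a') (hx : Dp O z' x) (h1 : x ≠ 1) (h2 : x ≠ z') :
    Lin O z' a' x := by
  have := h.conj g
  rw [hz, ha] at this
  exact this.change hx h1 h2

theorem Lin.rot' (h : Lin O z a d) : ∃ e, Lin O a (z * a) e := by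
  obtain ⟨n, h1, h2⟩ := h.rot
  have := h.conj n
  rw [MulAut.conj_apply n z, MulAut.conj_apply n a, h1, h2] at this
  exact ⟨_, this⟩

/-- symmetry: `(a, z, e)` for every non-central `e ∈ D_a` -/
theorem Lin.symm (h : Lin O z a d) {e : G} (he : Dp O a e) (h1 : e ≠ 1) (h2 : e ≠ a) :
    Lin O a z e := by
  obtain ⟨e', h'⟩ := h.rot'
  have := h'.swap
  rw [aza h.za h.aa] at this
  exact this.change he h1 h2

theorem Lin.exD (h : Lin O z a d) : ∃ e, Dp O a e ∧ e ≠ 1 ∧ e ≠ a := by
  obtain ⟨e, h'⟩ := h.rot'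
  exact ⟨e, h'.dD, h'.d1, h'.dz⟩

section

/-- The data attached to an element `w` of `O z` moving `a`. -/
structure Dat (O : G → Subgroup G) (z a d w d2 d3 s : G) : Prop extends Lin O z a d where
  hw : w ∈ O z
  wa : w * a = z * a * w
  hd2 : Dp O a d2
  d21 : d2 ≠ 1
  d2a : d2 ≠ a
  hd3 : d3 = w * d2 * w⁻¹
  hs : s = d2 * d3

variable {w d2 d3 s : G}

theorem Lin.exDat (h : Lin O z a d) {w d2 : G} (hw : w ∈ O z) (hwa : ¬ w * a = a * w)
    (hd2 : Dp O a d2) (h1 : d2 ≠ 1) (h2 : d2 ≠ a) :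
    Dat O z a d w d2 (w * d2 * w⁻¹) (d2 * (w * d2 * w⁻¹)) :=
  ⟨h, hw, ncomm h.toCfg hw hwa, hd2, h1, h2, rfl, rfl⟩

namespace Dat

variable (h : Dat O z a d w d2 d3 s)
include h

theorem wz : w * z = z * w := h.comm w h.hw

theorem nwa : ¬ w * a = a * w := by
  intro k
  rw [h.wa] at k
  have : z * a = a := mul_right_cancel k
  exact h.z1 (by simpa using this)

theorem d2z : d2 * z = z * d2 := h.toCfg.symm.dcomm h.hd2

theorem d2a' : d2 * a = a * d2 := h.toCfg.symm.comm d2 h.hd2.1

theorem d2q : d2 * d2 = 1 := (h.toLin.symm h.hd2 h.d21 h.d2a).dq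

theorem conjwa : MulAut.conj w a = z * a := by
  rw [MulAut.conj_apply, h.wa, mul_assoc, mul_inv_cancel, mul_one]

theorem dp3 : Dp O (z * a) d3 := by
  have := (h.eqv.dp_iff w a d2).2 h.hd2
  rwa [h.conjwa, MulAut.conj_apply, ← h.hd3] at this

theorem d3q : d3 * d3 = 1 := by
  rw [h.hd3]
  calc w * d2 * w⁻¹ * (w * d2 * w⁻¹) = w * (d2 * d2) * w⁻¹ := by group
    _ = 1 := by rw [h.d2q]; group

theorem d31 : d3 ≠ 1 := by
  intro k
  apply h.d21
  rw [h.hd3] at k
  have : w * d2 * w⁻¹ = w * 1 * w⁻¹ := by rw [k]; group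
  exact mul_left_cancel (mul_right_cancel this)

theorem d3a : d3 ≠ z * a := by
  intro k
  apply h.d2a
  have e : w * a * w⁻¹ = z * a := h.conjwa
  rw [h.hd3, ← e] at k
  exact mul_left_cancel (mul_right_cancel k)

theorem d3z : d3 * z = z * d3 := h.toCfg.third.dcomm h.dp3

theorem d3za : d3 * (z * a) = z * a * d3 := h.toCfg.third.comm d3 h.dp3.1

theorem d3a' : d3 * a = a * d3 := by
  have h1 := h.d3za
  rw [← mul_assoc, h.d3z, mul_assoc, mul_assoc] at h1
  exact mul_left_cancel h1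

theorem d23 : d2 * d3 = d3 * d2 := h.toCfg.rot'.dd h.hd2 h.dp3

theorem wd2 : w * d2 = d3 * w := by rw [h.hd3]; group

theorem wd3 : w * d3 = d2 * w := by
  have hww := h.toCfg.sq h.hw
  have e : w * d3 = w * w * d2 * w⁻¹ := by rw [h.hd3]; group
  rcases hww with k | k
  · have : w⁻¹ = w := inv_eq_of_mul_eq_one_left k
    rw [e, k, one_mul, this]
  · have : w⁻¹ = w * z := by
      symm
      apply eq_inv_of_mul_eq_one_left
      rw [mul_assoc, ← h.wz, ← mul_assoc, k, h.zz]
    rw [e, k, this, ← h.d2z, mul_assoc, ← mul_assoc z, ← h.wz, mul_assoc w, h.zz, mul_one]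

theorem ws : w * s = s * w := by
  rw [h.hs, ← mul_assoc, h.wd2, mul_assoc, h.wd3, ← mul_assoc, ← h.d23]

theorem sO : s ∈ O z := by
  have h1 : d2 * w * d2⁻¹ ∈ O z := h.eqv.mem_conj h.hw h.d2z
  have h2 : d2⁻¹ = d2 := inv_eq_of_mul_eq_one_left h.d2q
  rw [h2] at h1
  have : s = d2 * w * d2 * w⁻¹ := by rw [h.hs, h.hd3]; group
  rw [this]
  exact mul_mem h1 (inv_mem h.hw)

theorem sq1 : s * s = 1 := by
  rw [h.hs]
  calc d2 * d3 * (d2 * d3) = d2 * (d3 * d2) * d3 := by group
    _ = d2 * d2 * (d3 * d3) := by rw [← h.d23]; group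
    _ = 1 := by rw [h.d2q, h.d3q, one_mul]

theorem sa' : s * a = a * s := by
  rw [h.hs, mul_assoc, h.d3a', ← mul_assoc, h.d2a', mul_assoc]

theorem sz : s * z = z * s := h.comm s h.sO

theorem sd2 : s * d2 = d2 * s := by
  rw [h.hs, mul_assoc, ← h.d23]

theorem sd3 : s * d3 = d3 * s := by
  rw [h.hs, h.d23, mul_assoc, h.d23]

/-- (N2) -/
theorem snO : s ∉ O a := by
  intro k
  have h1 : d3 ∈ O a := by
    have : d3 = d2⁻¹ * s := by rw [h.hs]; group
    rw [this]
    exact mul_mem (inv_mem h.hd2.1) k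
  rcases h.toCfg.rot'.symm.d_inter h.dp3 h1 with k | k
  · exact h.d31 k
  · exact h.d3a k

theorem inv2 : d2⁻¹ = d2 := inv_eq_of_mul_eq_one_left h.d2q

theorem inv3 : d3⁻¹ = d3 := inv_eq_of_mul_eq_one_left h.d3q

/-- effect of `u ∈ C_{O z}(a)` on `d2`, `d3`, `s` -/
theorem eff {u : G} (hu : u ∈ O z) (hua : u * a = a * u) :
    (u * d2 = d2 * u ∧ u * d3 = d3 * u ∧ u * s = s * u) ∨
    (u * d2 = a * d2 * u ∧ u * d3 = z * a * d3 * u ∧ u * s = z * s * u) := by
  have huz := h.comm u hu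
  have huza : u * (z * a) = z * a * u := by rw [← mul_assoc, huz, mul_assoc, hua, mul_assoc]
  have hzz := h.zz
  have haa := h.aa
  have hs := h.toCfg.comm_mem hu h.sO
  have key : ∀ x y : G, u * d2 = x * d2 * u → u * d3 = y * d3 * u → (y * d2 = d2 * y) →
      u * s * u⁻¹ * s⁻¹ = x * y := by
    intro x y e1 e2 e3
    have : u * s = x * y * s * u := by
      rw [h.hs, ← mul_assoc, e1]
      calc x * d2 * u * d3 = x * d2 * (u * d3) := by group
        _ = x * (d2 * y) * d3 * u := by rw [e2]; group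
        _ = x * y * (d2 * d3) * u := by rw [← e3]; group
    rw [this]; group
  have zd2 : (z * a) * d2 = d2 * (z * a) := by
    rw [← mul_assoc, h.d2z, mul_assoc, mul_assoc, h.d2a']
  rcases h.toCfg.symm.cd h.hd2 hu hua with k1 | k1 <;>
    rcases h.toCfg.third.cd h.dp3 hu huza with k2 | k2 <;>
    rw [mul_inv_eq_iff_eq_mul, mul_inv_eq_iff_eq_mul] at k1 k2
  · left
    rw [one_mul] at k1 k2
    refine ⟨k1, k2, ?_⟩
    rw [h.hs, ← mul_assoc, k1, mul_assoc, k2, mul_assoc]
  · exfalso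
    have := key 1 (z * a) k1 k2 zd2
    rw [this, one_mul] at hs
    rcases hs with hs | hs
    · apply h.az
      have : z * (z * a) = z * 1 := by rw [hs]
      rw [← mul_assoc, hzz, one_mul, mul_one] at this
      exact this
    · exact h.a1 (by simpa using hs)
  · exfalso
    have := key a 1 k1 k2 (by simp)
    rw [this, mul_one] at hs
    rcases hs with hs | hs
    · exact h.a1 hs
    · exact h.az hs
  · right
    refine ⟨k1, k2, ?_⟩
    have := key a (z * a) k1 k2 zd2
    rw [aza h.za haa, mul_inv_eq_iff_eq_mul, mul_inv_eq_iff_eq_mul] at this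
    exact this

/-- (N3) -/
theorem exu : ∃ u ∈ O z, u * a = a * u ∧ u * d2 = a * d2 * u := by
  by_contra hcon
  push Not at hcon
  have h1 : ∀ u ∈ O z, u * a = a * u → u * d2 = d2 * u ∧ u * s = s * u := by
    intro u hu hua
    rcases h.eff hu hua with k | k
    · exact ⟨k.1, k.2.2⟩
    · exact absurd k.1 (hcon u hu hua)
  have dec : ∀ q ∈ O z, ¬ q * a = a * q → w⁻¹ * q * a = a * (w⁻¹ * q) := fun q hq hqa =>
    inv_mul_comm h.toCfg hq h.hw hqa h.nwa
  have hsD : Dp O z s := by
    rw [h.toCfg.dp_iff]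
    refine ⟨h.sO, fun q hq => ?_⟩
    by_cases hqa : q * a = a * q
    · exact (h1 q hq hqa).2.symm
    · have k := (h1 _ (mul_mem (inv_mem h.hw) hq) (dec q hq hqa)).2
      calc s * q = s * w * (w⁻¹ * q) := by group
        _ = w * (s * (w⁻¹ * q)) := by rw [← h.ws]; group
        _ = q * s := by rw [← k]; group
  have hdO : d2 ∈ O z := by
    refine h.nt d2 h.d2z fun q hq => ?_
    by_cases hqa : q * a = a * q
    · have : q * d2 * q⁻¹ * d2⁻¹ = 1 := by rw [(h1 q hq hqa).1]; group
      rw [this]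
      exact dp_mul h.toCfg.dz (dp_inv h.toCfg.dz) |> fun k => by
        rwa [mul_inv_cancel] at k
    · have k := (h1 _ (mul_mem (inv_mem h.hw) hq) (dec q hq hqa)).1
      have : q * d2 * q⁻¹ * d2⁻¹ = s := by
        calc q * d2 * q⁻¹ * d2⁻¹ = w * (w⁻¹ * q * d2) * (w⁻¹ * q)⁻¹ * w⁻¹ * d2⁻¹ := by group
          _ = w * d2 * w⁻¹ * d2⁻¹ := by rw [k]; group
          _ = d3 * d2⁻¹ := by rw [h.hd3]
          _ = s := by rw [h.inv2, h.hs, h.d23]
      rw [this]
      exact hsD
  rcases h.toCfg.symm.d_inter h.hd2 hdO with k | k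
  · exact h.d21 k
  · exact h.d2a k

end Dat

/-- (N3), general form: every `x ∈ D_a - ⟨a⟩` is moved by some `u ∈ C_{O z}(a)` -/
theorem Lin.exu (h : Lin O z a d) {x : G} (hx : Dp O a x) (h1 : x ≠ 1) (h2 : x ≠ a) :
    ∃ u ∈ O z, u * a = a * u ∧ u * x = a * x * u := by
  obtain ⟨w, hw, hwa, _, _⟩ := h.w0
  have hwa' : ¬ w * a = a * w := by
    intro k
    rw [MulAut.conj_apply, k, mul_assoc, mul_inv_cancel, mul_one] at hwa
    exact h.z1 (by simpa using hwa.symm)
  exact (h.exDat hw.1 hwa' hx h1 h2).exu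

/-- conjugating `d` inside `D_z` by an element commuting with `z` -/
theorem Lin.movD (h : Lin O z a d) {u : G} (huz : u * z = z * u) :
    u * d * u⁻¹ = d ∨ u * d * u⁻¹ = z * d := by
  have hD : Dp O z (u * d * u⁻¹) := h.eqv.dp_conj h.dD huz
  rcases h.four _ hD with k | k | k | k
  · exfalso
    apply h.d1
    have : u * d * u⁻¹ = u * 1 * u⁻¹ := by rw [k]; group
    exact mul_left_cancel (mul_right_cancel this)
  · exfalso
    apply h.dz
    have : u * d * u⁻¹ = u * z * u⁻¹ := by rw [k, huz]; group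
    exact mul_left_cancel (mul_right_cancel this)
  · exact Or.inl k
  · exact Or.inr k

/-- some element of `O a` commuting with `z` moves `d` -/
theorem Lin.exd (h : Lin O z a d) : ∃ u ∈ O a, u * z = z * u ∧ u * d = z * d * u := by
  obtain ⟨e, he, h1, h2⟩ := h.exD
  exact (h.symm he h1 h2).exu h.dD h.d1 h.dz

namespace Dat

variable (h : Dat O z a d w d2 d3 s)
include h

theorem linA : Lin O a z d2 := h.toLin.symm h.hd2 h.d21 h.d2a

theorem linA' : Lin O a (z * a) d2 := by
  have := h.linA.swap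
  rwa [← h.za] at this

/-- `u0 ∈ O a` commuting with `z` and moving `d3` -/
theorem exu0 : ∃ u ∈ O a, u * z = z * u ∧ u * d3 = z * a * d3 * u ∧
    u * s = z * a * s * u := by
  obtain ⟨u, hu, h1, h2⟩ := h.linA'.exu h.dp3 h.d31 h.d3a
  have hua := h.toCfg.symm.comm u hu
  have huz : u * z = z * u := by
    have : z = z * a * a := by rw [mul_assoc, h.aa, mul_one]
    rw [this, ← mul_assoc, h1, mul_assoc, hua, ← mul_assoc]
  refine ⟨u, hu, huz, h2, ?_⟩
  have hud : u * d2 = d2 * u := ((h.toCfg.symm.dp_iff.1 h.hd2).2 u hu).symm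
  have hzd : d2 * (z * a) = z * a * d2 := by
    rw [← mul_assoc, h.d2z, mul_assoc, h.d2a', mul_assoc]
  rw [h.hs, ← mul_assoc, hud, mul_assoc, h2]
  calc d2 * (z * a * d3 * u) = d2 * (z * a) * d3 * u := by group
    _ = z * a * (d2 * d3) * u := by rw [hzd]; group

theorem f2 (x : G) (hx : Dp O a x) : x = 1 ∨ x = a ∨ x = d2 ∨ x = a * d2 := h.linA.four x hx

theorem lin3 : Lin O (z * a) z d3 := by
  have h1 := h.toLin.swap.conj w
  have e : MulAut.conj w a = z * a := h.conjwa
  have h2 : Lin O (z * a) z (MulAut.conj w d2) := by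
    have h3 := h.linA.conj w
    have e2 : MulAut.conj w z = z := by
      rw [MulAut.conj_apply, h.wz, mul_assoc, mul_inv_cancel, mul_one]
    rwa [e, e2] at h3
  rwa [MulAut.conj_apply, ← h.hd3] at h2

theorem f3 (x : G) (hx : Dp O (z * a) x) : x = 1 ∨ x = z * a ∨ x = d3 ∨ x = z * a * d3 :=
  h.lin3.four x hx

/-- (N1) -/
theorem n1 {y : G} (hy : y ∈ O z) :
    (y * a = a * y ∧ y * s = s * y ∧ d2 * y = y * d2) ∨
    (y * a = a * y ∧ y * s = z * s * y ∧ d2 * y = a * y * d2) ∨
    (y * a = z * a * y ∧ y * s = s * y ∧ d2 * y = s * y * d2) ∨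
    (y * a = z * a * y ∧ y * s = z * s * y ∧ d2 * y = z * (s * a) * y * d2) := by
  have haa := h.aa
  have hzz := h.zz
  by_cases hya : y * a = a * y
  · rcases h.eff hy hya with k | k
    · exact Or.inl ⟨hya, k.2.2, k.1.symm⟩
    · right; left
      refine ⟨hya, k.2.2, ?_⟩
      have := k.1
      calc d2 * y = a * a * (d2 * y) := by rw [haa, one_mul]
        _ = a * (a * d2 * y) := by group
        _ = a * y * d2 := by rw [← this]; group
  · right; right
    have hya' := ncomm h.toCfg hy hya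
    have hu := inv_mul_comm h.toCfg hy h.hw hya h.nwa
    have huO : w⁻¹ * y ∈ O z := mul_mem (inv_mem h.hw) hy
    have hws := h.ws
    have hdw : d2 * w = s * w * d2 := by
      calc d2 * w = d2 * d3 * (d3 * w) := by
            rw [mul_assoc d2 d3, ← mul_assoc d3 d3, h.d3q, one_mul]
        _ = s * (d3 * w) := by rw [← h.hs]
        _ = s * w * d2 := by rw [← h.wd2, mul_assoc]
    rcases h.eff huO hu with k | k
    · left
      refine ⟨hya', ?_, ?_⟩
      · calc y * s = w * (w⁻¹ * y * s) := by group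
          _ = w * s * (w⁻¹ * y) := by rw [k.2.2]; group
          _ = s * y := by rw [hws]; group
      · calc d2 * y = d2 * w * (w⁻¹ * y) := by group
          _ = s * w * (d2 * (w⁻¹ * y)) := by rw [hdw]; group
          _ = s * y * d2 := by rw [← k.1]; group
    · right
      refine ⟨hya', ?_, ?_⟩
      · calc y * s = w * (w⁻¹ * y * s) := by group
          _ = w * z * s * (w⁻¹ * y) := by rw [k.2.2]; group
          _ = z * (w * s) * (w⁻¹ * y) := by rw [h.wz]; group
          _ = z * s * y := by rw [hws]; group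
      · have k1 : d2 * (w⁻¹ * y) = a * (w⁻¹ * y) * d2 := by
          have := k.1
          calc d2 * (w⁻¹ * y) = a * a * (d2 * (w⁻¹ * y)) := by rw [haa, one_mul]
            _ = a * (a * d2 * (w⁻¹ * y)) := by group
            _ = a * (w⁻¹ * y) * d2 := by rw [← this]; group
        calc d2 * y = d2 * w * (w⁻¹ * y) := by group
          _ = s * w * (d2 * (w⁻¹ * y)) := by rw [hdw]; group
          _ = s * (w * a) * (w⁻¹ * y) * d2 := by rw [k1]; group
          _ = s * z * a * w * (w⁻¹ * y) * d2 := by rw [h.wa]; group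
          _ = z * s * a * y * d2 := by rw [h.sz]; group
          _ = z * (s * a) * y * d2 := by group

end Dat

end

end Cfsg.Agent.Omega.FFTwoA.Line

end

-- merged: Cfsg.Agent.Mrg.Omega.FFTwoA.Quot
section

section


/-!
# FF-2a: the symplectic space `E = O z / ⟨z⟩`
-/

set_option autoImplicit false

namespace Cfsg.Agent.Omega.FFTwoA.Quot

open Cfsg.Agent.Omega.FFTwoA.Main Cfsg.Agent.Omega.FFTwoA.Four Cfsg.Agent.Omega.FFTwoA.Line

universe u

variable {G : Type u} [Group G] {O : G → Subgroup G} {z a : G}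

/-- The space `E = O z / ⟨z⟩` with its form and the action of `C_G(z)`. -/
structure Sp (O : G → Subgroup G) (z : G) (E : Type u) [AddCommGroup E] [Module (ZMod 2) E]
    (ρ : Subgroup.centralizer ({z} : Set G) →* AddMonoid.End E) (π : O z → E)
    (B : E → E → ZMod 2) : Prop where
  surj : Function.Surjective π
  mul : ∀ x y : O z, π (x * y) = π x + π y
  ker : ∀ x : O z, π x = 0 ↔ (x : G) = 1 ∨ (x : G) = z
  act : ∀ (g : Subgroup.centralizer ({z} : Set G)) (x y : O z),
    (y : G) = g * x * (g : G)⁻¹ → π y = ρ g (π x)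
  form : ∀ x y : O z, B (π x) (π y) = 0 ↔ (x : G) * y = y * x

theorem exists_sp (h : Cfg O z a) : ∃ (E : Type u) (_ : AddCommGroup E) (_ : Module (ZMod 2) E)
    (ρ : Subgroup.centralizer ({z} : Set G) →* AddMonoid.End E) (π : O z → E)
    (B : E → E → ZMod 2), Sp O z E ρ π B := by
  classical
  set N : Subgroup (O z) :=
    { carrier := {x | (x : G) = 1 ∨ (x : G) = z}
      mul_mem' := by
        rintro ⟨x, hx⟩ ⟨y, hy⟩ (h1 | h1) (h2 | h2)
        · left; change x * y = 1; change x = 1 at h1; change y = 1 at h2; rw [h1, h2, one_mul]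
        · right; change x * y = z; change x = 1 at h1; change y = z at h2; rw [h1, h2, one_mul]
        · right; change x * y = z; change x = z at h1; change y = 1 at h2; rw [h1, h2, mul_one]
        · left; change x * y = 1; change x = z at h1; change y = z at h2; rw [h1, h2, h.zz]
      one_mem' := Or.inl rfl
      inv_mem' := by
        rintro ⟨x, hx⟩ (h1 | h1)
        · left; change x⁻¹ = 1; change x = 1 at h1; rw [h1, inv_one]
        · right; change x⁻¹ = z; change x = z at h1; rw [h1]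
          exact inv_eq_of_mul_eq_one_left h.zz } with hN
  have mN : ∀ x : O z, x ∈ N ↔ (x : G) = 1 ∨ (x : G) = z := fun x => Iff.rfl
  have hNn : N.Normal := by
    constructor
    intro n hn g
    rw [mN] at hn ⊢
    change (g : G) * n * (g : G)⁻¹ = 1 ∨ (g : G) * n * (g : G)⁻¹ = z
    rcases hn with k | k <;> rw [k]
    · left; group
    · right; rw [h.comm g g.2, mul_assoc, mul_inv_cancel, mul_one]
  let Qt : Type u := O z ⧸ N
  let pr : O z →* Qt := QuotientGroup.mk' N
  have pr_eq : ∀ x y : O z, pr x = pr y ↔ x⁻¹ * y ∈ N := fun x y => QuotientGroup.eq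
  have prs : Function.Surjective pr := QuotientGroup.mk'_surjective N
  have hcomm : ∀ x y : Qt, x * y = y * x := by
    intro x y
    obtain ⟨x, rfl⟩ := prs x
    obtain ⟨y, rfl⟩ := prs y
    rw [← map_mul, ← map_mul, pr_eq, mN]
    change ((x : G) * y)⁻¹ * (y * x) = 1 ∨ ((x : G) * y)⁻¹ * (y * x) = z
    have e : ((x : G) * y)⁻¹ * (y * x) = (y : G)⁻¹ * (x : G)⁻¹ * (y : G)⁻¹⁻¹ * (x : G)⁻¹⁻¹ := by
      group
    rw [e]
    exact h.comm_mem (inv_mem y.2) (inv_mem x.2)
  let iC : CommGroup Qt := { (inferInstance : Group Qt) with mul_comm := hcomm }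
  let E : Type u := Additive Qt
  have hsq : ∀ x : E, (2 : ℕ) • x = 0 := by
    intro x
    obtain ⟨x, rfl⟩ := Additive.ofMul.surjective x
    obtain ⟨x, rfl⟩ := prs x
    change Additive.ofMul (pr x ^ 2) = 0
    rw [← map_pow]
    change Additive.ofMul (pr (x ^ 2)) = Additive.ofMul 1
    congr 1
    rw [← map_one pr, eq_comm, pr_eq, mN, inv_one, one_mul]
    change (x : G) ^ 2 = 1 ∨ (x : G) ^ 2 = z
    rw [pow_two]
    exact h.sq x.2
  let iM : Module (ZMod 2) E := AddCommGroup.zmodModule hsq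
  let cj : Subgroup.centralizer ({z} : Set G) → (O z →* O z) := fun g =>
    { toFun := fun x => ⟨g * x * (g : G)⁻¹, h.eqv.mem_conj x.2
        (Subgroup.mem_centralizer_singleton_iff.1 g.2)⟩
      map_one' := by ext; simp
      map_mul' := by intro x y; ext; simp }
  have cjN : ∀ g, N ≤ N.comap (cj g) := by
    intro g x hx
    rw [Subgroup.mem_comap, mN]
    rw [mN] at hx
    change (g : G) * x * (g : G)⁻¹ = 1 ∨ (g : G) * x * (g : G)⁻¹ = z
    rcases hx with k | k <;> rw [k]
    · left; group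
    · right
      rw [Subgroup.mem_centralizer_singleton_iff.1 g.2, mul_assoc, mul_inv_cancel, mul_one]
  let cq : Subgroup.centralizer ({z} : Set G) → (Qt →* Qt) := fun g =>
    QuotientGroup.map N N (cj g) (cjN g)
  have cq_mk : ∀ g (x : O z), cq g (pr x) = pr (cj g x) := fun g x => rfl
  let ρ : Subgroup.centralizer ({z} : Set G) →* AddMonoid.End E :=
    { toFun := fun g => MonoidHom.toAdditive (cq g)
      map_one' := by
        ext x
        obtain ⟨x, rfl⟩ := Additive.ofMul.surjective x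
        obtain ⟨x, rfl⟩ := prs x
        change Additive.ofMul (pr (cj 1 x)) = Additive.ofMul (pr x)
        congr 2
        ext
        change (1 : G) * x * (1 : G)⁻¹ = x
        group
      map_mul' := by
        intro g g'
        ext x
        obtain ⟨x, rfl⟩ := Additive.ofMul.surjective x
        obtain ⟨x, rfl⟩ := prs x
        change Additive.ofMul (pr (cj (g * g') x)) = Additive.ofMul (pr (cj g (cj g' x)))
        congr 2
        ext
        change ((g : G) * g') * x * ((g : G) * g')⁻¹ = g * (g' * x * (g' : G)⁻¹) * (g : G)⁻¹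
        group }
  let si : Qt → O z := Function.surjInv prs
  let B : E → E → ZMod 2 := fun x y =>
    if (si (Additive.toMul x) : O z) * si (Additive.toMul y) =
      si (Additive.toMul y) * si (Additive.toMul x) then 0
    else 1
  refine ⟨E, inferInstance, iM, ρ, fun x => Additive.ofMul (pr x), B, ?_, ?_, ?_, ?_, ?_⟩
  · intro x
    obtain ⟨x, rfl⟩ := Additive.ofMul.surjective x
    obtain ⟨x, rfl⟩ := prs x
    exact ⟨x, rfl⟩
  · intro x y
    rfl
  · intro x
    change Additive.ofMul (pr x) = Additive.ofMul 1 ↔ _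
    rw [Additive.ofMul.injective.eq_iff, ← map_one pr, eq_comm, pr_eq, mN, inv_one, one_mul]
  · rintro g x ⟨y, hy⟩ e
    change y = g * x * (g : G)⁻¹ at e
    subst e
    rfl
  · intro x y
    have key : ∀ x : O z, (si (pr x) : G) = x ∨
        (si (pr x) : G) = x * z := by
      intro x
      have h1 : pr x = pr (si (pr x)) := (Function.surjInv_eq prs (pr x)).symm
      rw [pr_eq, mN] at h1
      rcases h1 with k | k
      · left
        have : (x : G)⁻¹ * (si (pr x) : G) = 1 := k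
        rw [inv_mul_eq_one] at this
        exact this.symm
      · right
        have : (x : G)⁻¹ * (si (pr x) : G) = z := k
        rw [inv_mul_eq_iff_eq_mul] at this
        exact this
    have hxz := h.comm x x.2
    have hyz := h.comm y y.2
    change (if (si (pr x) : O z) * si (pr y) =
      si (pr y) * si (pr x) then (0 : ZMod 2) else 1) = 0 ↔ _
    have e : (si (pr x) : O z) * si (pr y) =
        si (pr y) * si (pr x) ↔ (x : G) * y = y * x := by
      rw [← Subtype.coe_inj]
      change (si (pr x) : G) * (si (pr y) : G) =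
        (si (pr y) : G) * (si (pr x) : G) ↔ _
      have e1 : (x : G) * (y * z) = x * y * z := by group
      have e2 : (y : G) * z * x = y * x * z := by rw [mul_assoc, ← hxz, mul_assoc]
      have e3 : (x : G) * z * y = x * y * z := by rw [mul_assoc, ← hyz, mul_assoc]
      have e4 : (y : G) * (x * z) = y * x * z := by group
      have e5 : (x : G) * z * (y * z) = x * y := by
        calc (x : G) * z * (y * z) = x * (z * y) * z := by group
          _ = x * y * (z * z) := by rw [← hyz]; group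
          _ = x * y := by rw [h.zz, mul_one]
      have e6 : (y : G) * z * (x * z) = y * x := by
        calc (y : G) * z * (x * z) = y * (z * x) * z := by group
          _ = y * x * (z * z) := by rw [← hxz]; group
          _ = y * x := by rw [h.zz, mul_one]
      rcases key x with k1 | k1 <;> rcases key y with k2 | k2 <;> rw [k1, k2]
      · rw [e1, e2]; exact mul_left_inj _
      · rw [e3, e4]; exact mul_left_inj _
      · rw [e5, e6]
    rw [← e]
    split_ifs with hc
    · simp [hc]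
    · simp [hc]

end Cfsg.Agent.Omega.FFTwoA.Quot

end

section


/-!
# FF-2a, `q = 2`: the end (bb OMEGA #12472, "THE END")

`E` is an `F₂`-space with an alternating form `B` (`E = W₁/⟨z₁⟩`), a group `M` acts on `E` by isometries
(`ρ : M →* End E`). `σ ∈ A` acts as `y ↦ y + (y,e) s + (y,s) e`. If `C_M(σ)` fixes `e` (field `ef`), then
`(e, e^h) = 0` for all `h ∈ M` (`Dat.orth`).
-/

set_option autoImplicit false

namespace Cfsg.Agent.Omega.FFTwoA.End

variable {E M : Type*} [AddCommGroup E] [Module (ZMod 2) E] [Group M]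

theorem two (x : E) : x + x = 0 := by
  rw [← two_smul (ZMod 2) x, show (2 : ZMod 2) = 0 from rfl, zero_smul]

theorem zcases (c : ZMod 2) : c = 0 ∨ c = 1 := by
  fin_cases c
  · exact Or.inl rfl
  · exact Or.inr rfl

theorem eq_of_add {x y : E} (h : x + y = 0) : x = y := by
  have h1 : x + y + y = x := by rw [add_assoc, two, add_zero]
  rw [← h1, h, zero_add]

/-- The data. -/
structure Dat (ρ : M →* AddMonoid.End E) (B : E → E → ZMod 2) (A : Subgroup M) (D : AddSubgroup E)
    (σ : M) (e s : E) : Prop where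
  add : ∀ x y w, B (x + y) w = B x w + B y w
  symm : ∀ x y, B x y = B y x
  alt : ∀ x, B x x = 0
  isom : ∀ g x y, B (ρ g x) (ρ g y) = B x y
  /-- `A` fixes `e` and is elementary abelian -/
  fix : ∀ a ∈ A, ρ a e = e
  sq : ∀ a ∈ A, ∀ x, ρ a (ρ a x) = x
  /-- (F1) -/
  sur : ∀ x, B x e = 1 → ∀ y, B y e = 0 → ∃ a ∈ A, ρ a x + x + y ∈ D
  perp : ∀ a ∈ A, ∀ y, B y e = 0 → ρ a y + y ∈ D
  /-- elements fixing `e` normalise `D` -/
  norm : ∀ g, ρ g e = e → ∀ d ∈ D, ρ g d ∈ D
  De : ∀ d ∈ D, B d e = 0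
  /-- (N1) -/
  sA : σ ∈ A
  sig : ∀ y, ρ σ y = y + B y e • s + B y s • e
  es : B e s = 0
  /-- (N2) -/
  Ds : ∀ d ∈ D, B d s = 0
  sD : s ∉ D
  seD : s + e ∉ D
  /-- (N3) -/
  rad : ∃ y, B s y = 1
  rad' : ∃ y, B (s + e) y = 1
  mov : ∃ a ∈ A, ρ a s = s + e
  /-- (EF) -/
  ef : ∀ g, ρ g * ρ σ = ρ σ * ρ g → ρ g e = e

namespace Dat

variable {ρ : M →* AddMonoid.End E} {B : E → E → ZMod 2} {A : Subgroup M} {D : AddSubgroup E}
  {σ : M} {e s : E}

theorem add_right (h : Dat ρ B A D σ e s) (x y w : E) : B w (x + y) = B w x + B w y := by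
  rw [h.symm, h.add, h.symm x, h.symm y]

theorem zero_left (h : Dat ρ B A D σ e s) (y : E) : B 0 y = 0 := by
  have h1 := h.add 0 0 y
  rw [add_zero] at h1
  exact left_eq_add.1 h1

theorem smul_left (h : Dat ρ B A D σ e s) (c : ZMod 2) (x y : E) : B (c • x) y = c * B x y := by
  rcases zcases c with rfl | rfl
  · rw [zero_smul, zero_mul, h.zero_left]
  · rw [one_smul, one_mul]

theorem smul_right (h : Dat ρ B A D σ e s) (c : ZMod 2) (x y : E) : B y (c • x) = c * B y x := by
  rw [h.symm, h.smul_left, h.symm]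

theorem act_smul (f : AddMonoid.End E) (c : ZMod 2) (x : E) : f (c • x) = c • f x := by
  rcases zcases c with rfl | rfl
  · rw [zero_smul, zero_smul, map_zero]
  · rw [one_smul, one_smul]

omit [Module (ZMod 2) E] in
theorem act_mul (ρ : M →* AddMonoid.End E) (g g' : M) (x : E) : ρ (g * g') x = ρ g (ρ g' x) := by
  rw [map_mul]; rfl

omit [Module (ZMod 2) E] in
theorem act_inv (ρ : M →* AddMonoid.End E) (g : M) (x : E) : ρ g (ρ g⁻¹ x) = x := by
  rw [← act_mul, mul_inv_cancel, map_one]; rfl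

omit [Module (ZMod 2) E] in
theorem act_inv' (ρ : M →* AddMonoid.End E) (g : M) (x : E) : ρ g⁻¹ (ρ g x) = x := by
  rw [← act_mul, inv_mul_cancel, map_one]; rfl

/-- `s` may be replaced by `s + e`. -/
theorem swap (h : Dat ρ B A D σ e s) : Dat ρ B A D σ e (s + e) where
  add := h.add
  symm := h.symm
  alt := h.alt
  isom := h.isom
  fix := h.fix
  sq := h.sq
  sur := h.sur
  perp := h.perp
  norm := h.norm
  De := h.De
  sA := h.sA
  sig y := by
    rw [h.sig, h.add_right, smul_add, add_smul]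
    have h1 := two (B y e • e)
    rw [show y + (B y e • s + B y e • e) + (B y s • e + B y e • e)
      = y + B y e • s + B y s • e + (B y e • e + B y e • e) by abel, h1, add_zero]
  es := by rw [h.add_right, h.es, h.alt, add_zero]
  Ds d hd := by rw [h.add_right, h.Ds d hd, h.De d hd, add_zero]
  sD := h.seD
  seD := by
    rw [add_assoc, two, add_zero]
    exact h.sD
  rad := h.rad'
  rad' := by
    rw [add_assoc, two, add_zero]
    exact h.rad
  mov := by
    obtain ⟨a, ha, h1⟩ := h.mov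
    refine ⟨a, ha, ?_⟩
    rw [map_add, h1, h.fix a ha]
  ef := h.ef

/-- conjugate data -/
theorem conj (h : Dat ρ B A D σ e s) (g : M) :
    Dat ρ B (A.map (MulAut.conj g).toMonoidHom) (D.map (ρ g : E →+ E)) (g * σ * g⁻¹) (ρ g e)
      (ρ g s) := by
  have hB : ∀ x y, B x (ρ g y) = B (ρ g⁻¹ x) y := by
    intro x y
    rw [← h.isom g (ρ g⁻¹ x) y, act_inv]
  have hmem : ∀ x, x ∈ D.map (ρ g : E →+ E) ↔ ρ g⁻¹ x ∈ D := by
    intro x
    constructor
    · rintro ⟨d, hd, rfl⟩
      change ρ g⁻¹ (ρ g d) ∈ D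
      rwa [act_inv']
    · intro hx
      exact ⟨_, hx, act_inv ρ g x⟩
  refine
  { add := h.add
    symm := h.symm
    alt := h.alt
    isom := h.isom
    fix := ?_
    sq := ?_
    sur := ?_
    perp := ?_
    norm := ?_
    De := ?_
    sA := ⟨σ, h.sA, rfl⟩
    sig := ?_
    es := ?_
    Ds := ?_
    sD := ?_
    seD := ?_
    rad := ?_
    rad' := ?_
    mov := ?_
    ef := ?_ }
  · rintro _ ⟨a, ha, rfl⟩
    change ρ (g * a * g⁻¹) (ρ g e) = ρ g e
    rw [act_mul, act_mul, act_inv', h.fix a ha]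
  · rintro _ ⟨a, ha, rfl⟩ x
    change ρ (g * a * g⁻¹) (ρ (g * a * g⁻¹) x) = x
    rw [act_mul, act_mul, act_mul, act_mul, act_inv', h.sq a ha, act_inv]
  · intro x hx y hy
    obtain ⟨a, ha, h1⟩ := h.sur (ρ g⁻¹ x) (by rw [← hB, hx]) (ρ g⁻¹ y) (by rw [← hB, hy])
    refine ⟨g * a * g⁻¹, ⟨a, ha, rfl⟩, ?_⟩
    rw [hmem, map_add, map_add, act_mul, act_mul, act_inv']
    exact h1
  · rintro _ ⟨a, ha, rfl⟩ y hy
    change ρ (g * a * g⁻¹) y + y ∈ _
    rw [hmem, map_add, act_mul, act_mul, act_inv']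
    exact h.perp a ha _ (by rw [← hB, hy])
  · intro k hk d hd
    rw [hmem] at hd ⊢
    have h1 := h.norm (g⁻¹ * k * g) (by rw [act_mul, act_mul, hk, act_inv']) _ hd
    rw [act_mul, act_mul, act_inv] at h1
    exact h1
  · intro d hd
    rw [hB]
    exact h.De _ ((hmem d).1 hd)
  · intro y
    rw [act_mul, act_mul, h.sig, map_add, map_add, act_smul, act_smul, act_inv, hB, hB]
  · rw [h.isom, h.es]
  · intro d hd
    rw [hB]
    exact h.Ds _ ((hmem d).1 hd)
  · rw [hmem, act_inv']
    exact h.sD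
  · rw [hmem, map_add, act_inv', act_inv']
    exact h.seD
  · obtain ⟨y, hy⟩ := h.rad
    exact ⟨ρ g y, by rw [h.isom, hy]⟩
  · obtain ⟨y, hy⟩ := h.rad'
    exact ⟨ρ g y, by rw [← map_add, h.isom, hy]⟩
  · obtain ⟨a, ha, h1⟩ := h.mov
    refine ⟨g * a * g⁻¹, ⟨a, ha, rfl⟩, ?_⟩
    rw [act_mul, act_mul, act_inv', h1, map_add]
  · intro k hk
    have h1 := h.ef (g⁻¹ * k * g) (by
      have h2 := congrArg (fun f => ρ g⁻¹ * f * ρ g) hk
      simp only [map_mul] at h2 ⊢
      have e1 : ρ g⁻¹ * ρ g = 1 := by rw [← map_mul, inv_mul_cancel, map_one]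
      calc ρ g⁻¹ * ρ k * ρ g * ρ σ
          = ρ g⁻¹ * (ρ k * (ρ g * ρ σ * ρ g⁻¹)) * ρ g := by
            simp only [mul_assoc]; rw [e1, mul_one]
        _ = ρ g⁻¹ * (ρ g * ρ σ * ρ g⁻¹ * ρ k) * ρ g := h2
        _ = (ρ g⁻¹ * ρ g) * ρ σ * (ρ g⁻¹ * ρ k * ρ g) := by simp only [mul_assoc]
        _ = _ := by rw [e1, one_mul])
    have h3 := congrArg (ρ g) h1
    rwa [act_mul, act_mul, act_inv] at h3

/-- two long root elements on nondegenerately paired lines generate `S₃` -/
theorem braid (h : Dat ρ B A D σ e s) {T T' : AddMonoid.End E} {x w x' w' : E}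
    (hT : ∀ y, T y = y + B y x • w + B y w • x) (hT' : ∀ y, T' y = y + B y x' • w' + B y w' • x')
    (hxw : B x w = 0) (hxw' : B x' w' = 0)
    (det : B x x' * B w w' + B x w' * B w x' = 1) : T * T' * T = T' * T * T' := by
  have key : ∀ a b c d p q r u : ZMod 2, p * u + q * r = 1 →
      (a + (c + a * r + b * p) * q + (d + a * u + b * q) * p + a = a + c * q + d * p ∧
      b + (c + a * r + b * p) * u + (d + a * u + b * q) * r + b = b + c * u + d * r ∧
      c + a * r + b * p = c + (a + c * q + d * p) * r + (b + c * u + d * r) * p + c ∧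
      d + a * u + b * q = d + (a + c * q + d * p) * u + (b + c * u + d * r) * q + d) := by decide
  ext y
  change T (T' (T y)) = T' (T (T' y))
  have hwx : B w x = 0 := by rw [h.symm, hxw]
  have hwx' : B w' x' = 0 := by rw [h.symm, hxw']
  have Tx : T x = x := by rw [hT, h.alt, hxw, zero_smul, zero_smul, add_zero, add_zero]
  have Tw : T w = w := by rw [hT, h.alt, hwx, zero_smul, zero_smul, add_zero, add_zero]
  have Tx' : T' x' = x' := by rw [hT', h.alt, hxw', zero_smul, zero_smul, add_zero, add_zero]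
  have Tw' : T' w' = w' := by rw [hT', h.alt, hwx', zero_smul, zero_smul, add_zero, add_zero]
  have h1 := hT x'
  have h2 := hT w'
  have h3 := hT' x
  have h4 := hT' w
  rw [h.symm x' x, h.symm x' w] at h1
  rw [h.symm w' x, h.symm w' w] at h2
  obtain ⟨k1, k2, k3, k4⟩ := key (B y x) (B y w) (B y x') (B y w') (B x x') (B x w') (B w x')
    (B w w') det
  have l1 : T' (T y) = y + B y x • w + B y w • x + (B y x' + B y x * B w x' + B y w * B x x') • w' +
      (B y w' + B y x * B w w' + B y w * B x w') • x' := by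
    rw [hT y, map_add, map_add, act_smul, act_smul, h3, h4, hT' y]
    module
  have l2 : T (T' y) = y + (B y x + B y x' * B x w' + B y w' * B x x') • w +
      (B y w + B y x' * B w w' + B y w' * B w x') • x + B y x' • w' + B y w' • x' := by
    rw [hT' y, map_add, map_add, act_smul, act_smul, h1, h2, hT y]
    module
  have l3 : T (T' (T y)) = y +
      (B y x + (B y x' + B y x * B w x' + B y w * B x x') * B x w' +
        (B y w' + B y x * B w w' + B y w * B x w') * B x x' + B y x) • w +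
      (B y w + (B y x' + B y x * B w x' + B y w * B x x') * B w w' +
        (B y w' + B y x * B w w' + B y w * B x w') * B w x' + B y w) • x +
      (B y x' + B y x * B w x' + B y w * B x x') • w' +
      (B y w' + B y x * B w w' + B y w * B x w') • x' := by
    rw [l1, map_add, map_add, map_add, map_add, act_smul, act_smul, act_smul, act_smul, h1, h2,
      Tx, Tw, hT y]
    module
  have l4 : T' (T (T' y)) = y + (B y x + B y x' * B x w' + B y w' * B x x') • w +
      (B y w + B y x' * B w w' + B y w' * B w x') • x +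
      (B y x' + (B y x + B y x' * B x w' + B y w' * B x x') * B w x' +
        (B y w + B y x' * B w w' + B y w' * B w x') * B x x' + B y x') • w' +
      (B y w' + (B y x + B y x' * B x w' + B y w' * B x x') * B w w' +
        (B y w + B y x' * B w w' + B y w' * B w x') * B x w' + B y w') • x' := by
    rw [l2, map_add, map_add, map_add, map_add, act_smul, act_smul, act_smul, act_smul, h3, h4,
      Tx', Tw', hT' y]
    module
  rw [l3, l4, k1, k2, ← k3, ← k4]

theorem sig_sq (h : Dat ρ B A D σ e s) : ρ σ * ρ σ = 1 := by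
  ext y
  exact h.sq σ h.sA y

/-- the marked vectors are compatible with braiding -/
theorem marked (h : Dat ρ B A D σ e s) {g g' t t' : M} (ht : g * σ * g⁻¹ = t)
    (ht' : g' * σ * g'⁻¹ = t') (hb : ρ t * ρ t' * ρ t = ρ t' * ρ t * ρ t') :
    ρ t' (ρ g e) = ρ t (ρ g' e) := by
  have e1 : ∀ a b : M, a = b → ρ a = ρ b := fun a b h => by rw [h]
  have st : ρ t * ρ t = 1 := by
    rw [← ht, map_mul, map_mul]
    calc ρ g * ρ σ * ρ g⁻¹ * (ρ g * ρ σ * ρ g⁻¹)
        = ρ g * (ρ σ * ((ρ g⁻¹ * ρ g) * ρ σ)) * ρ g⁻¹ := by simp only [mul_assoc]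
      _ = 1 := by
        rw [← map_mul, inv_mul_cancel, map_one, one_mul, h.sig_sq, mul_one, ← map_mul,
          mul_inv_cancel, map_one]
  have st' : ρ t' * ρ t' = 1 := by
    rw [← ht', map_mul, map_mul]
    calc ρ g' * ρ σ * ρ g'⁻¹ * (ρ g' * ρ σ * ρ g'⁻¹)
        = ρ g' * (ρ σ * ((ρ g'⁻¹ * ρ g') * ρ σ)) * ρ g'⁻¹ := by simp only [mul_assoc]
      _ = 1 := by
        rw [← map_mul, inv_mul_cancel, map_one, one_mul, h.sig_sq, mul_one, ← map_mul,
          mul_inv_cancel, map_one]
  -- `ρ (t' g) ρ σ = X ρ (t' g)`, `ρ (t g') ρ σ = X ρ (t g')`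
  have a1 : ρ (t' * g) * ρ σ = ρ t' * ρ t * ρ t' * ρ (t' * g) := by
    rw [← map_mul, e1 (t' * g * σ) (t' * t * g) (by rw [← ht]; group), map_mul, map_mul, map_mul]
    calc ρ t' * ρ t * ρ g = ρ t' * ρ t * (1 * ρ g) := by rw [one_mul]
      _ = _ := by rw [← st']; simp only [mul_assoc]
  have a2 : ρ (t * g') * ρ σ = ρ t' * ρ t * ρ t' * ρ (t * g') := by
    rw [← hb, ← map_mul, e1 (t * g' * σ) (t * t' * g') (by rw [← ht']; group), map_mul, map_mul,
      map_mul]
    calc ρ t * ρ t' * ρ g' = ρ t * ρ t' * (1 * ρ g') := by rw [one_mul]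
      _ = _ := by rw [← st]; simp only [mul_assoc]
  have a3 : ρ (t * g')⁻¹ * (ρ t' * ρ t * ρ t') = ρ σ * ρ (t * g')⁻¹ := by
    calc ρ (t * g')⁻¹ * (ρ t' * ρ t * ρ t')
        = ρ (t * g')⁻¹ * (ρ t' * ρ t * ρ t' * (ρ (t * g') * ρ (t * g')⁻¹)) := by
          rw [← map_mul ρ (t * g'), mul_inv_cancel, map_one, mul_one]
      _ = ρ (t * g')⁻¹ * (ρ t' * ρ t * ρ t' * ρ (t * g')) * ρ (t * g')⁻¹ := by
          simp only [mul_assoc]
      _ = (ρ (t * g')⁻¹ * ρ (t * g')) * ρ σ * ρ (t * g')⁻¹ := by rw [← a2]; simp only [mul_assoc]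
      _ = _ := by rw [← map_mul ρ (t * g')⁻¹, inv_mul_cancel, map_one, one_mul]
  have a4 := h.ef ((t * g')⁻¹ * (t' * g)) (by
    rw [map_mul, mul_assoc, a1, ← mul_assoc, a3, mul_assoc])
  have a5 := congrArg (ρ (t * g')) a4
  rwa [← act_mul, mul_inv_cancel_left, act_mul, act_mul] at a5

/-- (R) -/
theorem rr (h : Dat ρ B A D σ e s) {t t' : M} {x w x' w' : E} (hg : ∃ g, g * σ * g⁻¹ = t ∧ ρ g e = x)
    (hg' : ∃ g, g * σ * g⁻¹ = t' ∧ ρ g e = x')
    (hT : ∀ y, ρ t y = y + B y x • w + B y w • x) (hT' : ∀ y, ρ t' y = y + B y x' • w' + B y w' • x')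
    (hxw : B x w = 0) (hxw' : B x' w' = 0)
    (det : B x x' * B w w' + B x w' * B w x' = 1) :
    x + B x x' • w' + B x w' • x' = x' + B x' x • w + B x' w • x := by
  obtain ⟨g, ht, rfl⟩ := hg
  obtain ⟨g', ht', rfl⟩ := hg'
  rw [← hT', ← hT]
  exact h.marked ht ht' (h.braid hT hT' hxw hxw' det)

theorem main (h : Dat ρ B A D σ e s) {k t : M} {f sf : E} {A' : Subgroup M} {D' : AddSubgroup E}
    (ht : k * σ * k⁻¹ = t) (hf : ρ k e = f) (hk : Dat ρ B A' D' t f sf)
    (h1 : B e f = 1) (h2 : B s f = 0) (h3 : B sf e = 0) : False := by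
  have h3' : B e sf = 0 := by rw [h.symm, h3]
  have h2' : B f s = 0 := by rw [h.symm, h2]
  have h1' : B f e = 1 := by rw [h.symm, h1]
  have hse : B s e = 0 := by rw [h.symm, h.es]
  have hsff : B sf f = 0 := by rw [h.symm, hk.es]
  -- (1)
  have s1 : B s sf = 0 := by
    rcases zcases (B s sf) with h4 | h4
    · exact h4
    exfalso
    have h5 := h.rr (t := σ) (t' := t) (x := e) (w := s) (x' := f) (w' := sf)
      ⟨1, by group, by rw [map_one]; rfl⟩ ⟨k, ht, hf⟩ h.sig hk.sig h.es hk.es (by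
        rw [h1, h4, h2, mul_zero, add_zero, mul_one])
    rw [h1, h3', h1', h2', zero_smul, zero_smul, one_smul, one_smul, add_zero, add_zero] at h5
    have h6 : B (e + sf) e = B (f + s) e := by rw [h5]
    rw [h.add, h.add, h.alt, h3, h1', hse] at h6
    exact absurd h6 (by decide)
  have s1' : B sf s = 0 := by rw [h.symm, s1]
  -- (2)
  have tsf : ρ t sf = sf := by
    rw [hk.sig, hsff, h.alt, zero_smul, zero_smul, add_zero, add_zero]
  have tf : ρ t f = f := by
    rw [hk.sig, hk.es, h.alt, zero_smul, zero_smul, add_zero, add_zero]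
  have ts : ρ t s = s := by
    rw [hk.sig, h2, s1, zero_smul, zero_smul, add_zero, add_zero]
  have ssf : ρ σ sf = sf := by
    rw [h.sig, h3, s1', zero_smul, zero_smul, add_zero, add_zero]
  have ss : ρ σ s = s := by
    rw [h.sig, h.alt, hse, zero_smul, zero_smul, add_zero, add_zero]
  have sf' : ρ σ f = f + s := by
    rw [h.sig, h1', h2', zero_smul, one_smul, add_zero]
  have kap : ∀ y, B y e = 0 → B y s = 0 → ρ (σ * t * σ * t) y = y + B y sf • s := by
    intro y hy hy'
    have l1 : ρ σ y = y := by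
      rw [h.sig, hy, hy', zero_smul, zero_smul, add_zero, add_zero]
    rw [act_mul, act_mul, act_mul]
    have l2 : ρ σ (ρ t y) = y + B y f • sf + B y sf • (f + s) := by
      rw [hk.sig, map_add, map_add, act_smul, act_smul, l1, ssf, sf']
    have l3 : ρ t (y + B y f • sf + B y sf • (f + s)) = y + B y sf • s := by
      rw [map_add, map_add, act_smul, act_smul, map_add, tsf, tf, ts, hk.sig, smul_add]
      have e1 := two (B y f • sf)
      have e2 := two (B y sf • f)
      calc y + B y f • sf + B y sf • f + B y f • sf + (B y sf • f + B y sf • s)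
          = y + B y sf • s + (B y f • sf + B y f • sf) + (B y sf • f + B y sf • f) := by abel
        _ = _ := by rw [e1, e2, add_zero, add_zero]
    rw [l2, l3, map_add, act_smul, l1, ss]
  have hDf : ∀ d ∈ D, B d sf = 0 := by
    intro d hd
    rcases zcases (B d sf) with h4 | h4
    · exact h4
    exfalso
    have h5 := h.norm (σ * t * σ * t) (by
      rw [kap e (h.alt e) h.es, h3', zero_smul, add_zero]) d hd
    rw [kap d (h.De d hd) (h.Ds d hd), h4, one_smul] at h5
    exact h.sD ((AddSubgroup.add_mem_cancel_left D hd).1 h5)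
  have hDf' : ∀ d ∈ D, B sf d = 0 := fun d hd => by rw [h.symm, hDf d hd]
  have hDs' : ∀ d ∈ D, B s d = 0 := fun d hd => by rw [h.symm, h.Ds d hd]
  -- (3)
  have eaf : ∀ a ∈ A, B (ρ a f) e = 1 := by
    intro a ha
    have h4 := h.isom a f e
    rw [h.fix a ha, h1'] at h4
    exact h4
  have ega : ∀ a ∈ A, B (ρ a f + f) e = 0 := by
    intro a ha
    rw [h.add, eaf a ha, h1']
    decide
  have hom : ∀ v, (∀ d ∈ D, B v d = 0) → ∀ a ∈ A, ∀ b ∈ A,
      B v (ρ (a * b) f + f) = B v (ρ a f + f) + B v (ρ b f + f) := by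
    intro v hv a ha b hb
    have h4 := hv _ (h.perp a ha (ρ b f + f) (ega b hb))
    have h5 : ρ (a * b) f + f = (ρ a (ρ b f + f) + (ρ b f + f)) + (ρ a f + f) + (ρ b f + f) := by
      rw [act_mul, map_add]
      have e1 := two (ρ b f)
      have e2 := two f
      have e3 := two (ρ a f)
      calc ρ a (ρ b f) + f = ρ a (ρ b f) + f + (ρ b f + ρ b f) + (f + f) + (ρ a f + ρ a f) := by
            rw [e1, e2, e3, add_zero, add_zero, add_zero]
        _ = _ := by abel
    rw [h5, h.add_right, h.add_right, h4, zero_add]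
  obtain ⟨a1, ha1, hb1⟩ : ∃ a ∈ A, B sf (ρ a f + f) = 1 := by
    by_contra hno
    have hz : ∀ a ∈ A, B sf (ρ a f + f) = 0 := by
      intro a ha
      rcases zcases (B sf (ρ a f + f)) with h4 | h4
      · exact h4
      · exact absurd ⟨a, ha, h4⟩ hno
    have hzz : ∀ y, B y e = 0 → B sf y = 0 := by
      intro y hy
      obtain ⟨a, ha, h4⟩ := h.sur f h1' y hy
      have h5 := hDf' _ h4
      rw [h.add_right, hz a ha, zero_add] at h5
      exact h5
    obtain ⟨y, hy⟩ := hk.rad
    rcases zcases (B y e) with h4 | h4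
    · rw [hzz y h4] at hy
      exact absurd hy (by decide)
    · have h5 := hzz (y + f) (by rw [h.add, h4, h1']; decide)
      rw [h.add_right, hy, hsff] at h5
      exact absurd h5 (by decide)
  obtain ⟨a2, ha2, hb2⟩ : ∃ a ∈ A, B s (ρ a f + f) = 1 := by
    obtain ⟨a, ha, h4⟩ := h.mov
    refine ⟨a, ha, ?_⟩
    rw [h.add_right, h2, add_zero, ← h.isom a, h4, h.sq a ha, h.add, h2, h1, zero_add]
  obtain ⟨a, ha, hb, hg⟩ : ∃ a ∈ A, B sf (ρ a f + f) = 1 ∧ B s (ρ a f + f) = 1 := by
    rcases zcases (B s (ρ a1 f + f)) with h4 | h4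
    · rcases zcases (B sf (ρ a2 f + f)) with h5 | h5
      · refine ⟨a1 * a2, mul_mem ha1 ha2, ?_, ?_⟩
        · rw [hom sf hDf' a1 ha1 a2 ha2, hb1, h5, add_zero]
        · rw [hom s hDs' a1 ha1 a2 ha2, h4, hb2, zero_add]
      · exact ⟨a2, ha2, h5, hb2⟩
    · exact ⟨a1, ha1, hb1, h4⟩
  -- (4)
  have s4 : ∀ a ∈ A, B sf (ρ a f + f) = 1 → B f (ρ a f) = 0 := by
    intro a ha hb
    rcases zcases (B f (ρ a f)) with h4 | h4
    · exact h4
    exfalso
    have hc := hk.conj a
    have q1 : B sf (ρ a f) = 1 := by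
      rw [h.add_right, hsff, add_zero] at hb
      exact hb
    have q2 : B f (ρ a sf) = 1 := by
      rw [← h.isom a, h.sq a ha, h.symm, q1]
    have q3 : B sf (ρ a sf) = 0 := by
      have h5 := hDf' _ (h.perp a ha sf h3)
      rw [h.add_right, h.alt, add_zero] at h5
      exact h5
    have h5 := h.rr (t := t) (t' := a * t * a⁻¹) (x := f) (w := sf) (x' := ρ a f) (w' := ρ a sf)
      ⟨k, ht, hf⟩ ⟨a * k, by rw [← ht]; group, by rw [act_mul, hf]⟩ hk.sig hc.sig hk.es hc.es (by
        rw [h4, q3, q2, q1]; decide)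
    rw [h4, q2, h.symm (ρ a f) f, h4, h.symm (ρ a f) sf, q1, one_smul, one_smul, one_smul,
      one_smul] at h5
    have h6 : ρ a sf = sf := by
      have h7 : f + ρ a sf + ρ a f = f + sf + ρ a f := by rw [h5]; abel
      exact add_left_cancel (add_right_cancel h7)
    rw [← h6, h.isom, hsff] at q1
    exact absurd q1 (by decide)
  -- (5)
  have s5 := s4 a ha hb
  have s6 := s4 (σ * a) (mul_mem h.sA ha) (by
    rw [hom sf hDf' σ h.sA a ha, hb, sf']
    have e1 : f + s + f = s := by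
      calc f + s + f = s + (f + f) := by abel
        _ = s := by rw [two, add_zero]
    rw [e1, s1', zero_add])
  have hg' : B (ρ a f) s = 1 := by
    rw [h.add_right, h2, add_zero] at hg
    rw [h.symm, hg]
  rw [act_mul, h.sig, eaf a ha, hg', one_smul, one_smul, h.add_right, h.add_right, s5, h2', h1']
    at s6
  exact absurd s6 (by decide)

/-- **The end**: all `M`-conjugates of `e` are orthogonal to `e`. -/
theorem orth (h : Dat ρ B A D σ e s) (k : M) : B e (ρ k e) = 0 := by
  rcases zcases (B e (ρ k e)) with h1 | h1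
  · exact h1
  exfalso
  have hc := h.conj k
  have hc' := hc.swap
  obtain ⟨sf, A', D', hk, h3⟩ : ∃ (sf : E) (A' : Subgroup M) (D' : AddSubgroup E),
      Dat ρ B A' D' (k * σ * k⁻¹) (ρ k e) sf ∧ B sf e = 0 := by
    rcases zcases (B (ρ k s) e) with h4 | h4
    · exact ⟨_, _, _, hc, h4⟩
    · refine ⟨_, _, _, hc', ?_⟩
      rw [h.add, h4, h.symm, h1]
      decide
  rcases zcases (B s (ρ k e)) with h4 | h4
  · exact h.main rfl rfl hk h1 h4 h3
  · exact h.swap.main rfl rfl hk h1 (by rw [h.add, h4, h1]; decide) h3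

end Dat

end Cfsg.Agent.Omega.FFTwoA.End

end

end

-- merged: Cfsg.Agent.Omega.FFTwoA.BTwo
section

/-!
# FF-2a (7), case (b2): an abelian normal subgroup of `C(d)` containing `w`

bb OMEGA #12472 (helper9).
-/

set_option autoImplicit false

namespace Cfsg.Agent.Omega.FFTwoA.BTwo

open Cfsg.Agent.Omega.FFTwoA.Main Cfsg.Agent.Omega.FFTwoA.Four Cfsg.Agent.Omega.FFTwoA.Line

variable {G : Type*} [Group G] {O : G → Subgroup G} {z a d w d2 d3 s : G}

/-- The elements of the group `⟨z, a, s⟩` of order `8`. -/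
def LH (z a s x : G) : Prop :=
  (x = 1 ∨ x = z ∨ x = a ∨ x = z * a) ∨ (x = s ∨ x = z * s ∨ x = a * s ∨ x = z * a * s)

/-- `{m ∈ C(z) : [m, d2] ∈ O z}` -/
def NS (O : G → Subgroup G) (z d2 m : G) : Prop :=
  m * z = z * m ∧ d2⁻¹ * (m * d2 * m⁻¹) ∈ O z

theorem LH.zmul (hzz : z * z = 1) {x : G} (hx : LH z a s x) : LH z a s (z * x) := by
  unfold LH at *
  rcases hx with (h | h | h | h) | (h | h | h | h) <;> subst h
  · left; right; left; simp
  · left; left; exact hzz
  · left; right; right; right; rfl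
  · left; right; right; left; rw [← mul_assoc, hzz, one_mul]
  · right; right; left; rfl
  · right; left; rw [← mul_assoc, hzz, one_mul]
  · right; right; right; right; rw [← mul_assoc]
  · right; right; right; left; rw [← mul_assoc, ← mul_assoc, hzz, one_mul]

section

variable (h : Dat O z a d w d2 d3 s)
include h

theorem NS.mul {m n : G} (hm : NS O z d2 m) (hn : NS O z d2 n) : NS O z d2 (m * n) := by
  refine ⟨by rw [mul_assoc, hn.1, ← mul_assoc, hm.1, mul_assoc], ?_⟩
  have e : d2⁻¹ * (m * n * d2 * (m * n)⁻¹) =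
      d2⁻¹ * (m * d2 * m⁻¹) * (m * (d2⁻¹ * (n * d2 * n⁻¹)) * m⁻¹) := by group
  rw [e]
  exact mul_mem hm.2 (h.eqv.mem_conj hn.2 hm.1)

theorem NS.inv {m : G} (hm : NS O z d2 m) : NS O z d2 m⁻¹ := by
  have h1 : m⁻¹ * z = z * m⁻¹ := by
    rw [inv_mul_eq_iff_eq_mul, ← mul_assoc, hm.1, mul_assoc, mul_inv_cancel, mul_one]
  refine ⟨h1, ?_⟩
  have e : d2⁻¹ * (m⁻¹ * d2 * m⁻¹⁻¹) = (m⁻¹ * (d2⁻¹ * (m * d2 * m⁻¹)) * m⁻¹⁻¹)⁻¹ := by group
  rw [e]
  exact inv_mem (h.eqv.mem_conj hm.2 h1)

theorem lh_comm {y : G} (hy : y ∈ O z) : LH z a s (d2 * y * d2⁻¹ * y⁻¹) := by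
  rcases h.n1 hy with k | k | k | k <;> rw [k.2.2]
  · left; left; group
  · left; right; right; left; group
  · right; left; group
  · right; right; right; right
    rw [h.sa']; group

theorem hl_aux {m y : G} (hm : NS O z d2 m) (hy : y ∈ O z) :
    LH z a s (m * (d2 * y * d2⁻¹ * y⁻¹) * m⁻¹) := by
  have hy' : m * y * m⁻¹ ∈ O z := h.eqv.mem_conj hy hm.1
  have key := lh_comm h hy'
  set q := d2⁻¹ * (m * d2 * m⁻¹) with hq
  have e : m * (d2 * y * d2⁻¹ * y⁻¹) * m⁻¹ =
      d2 * (q * (m * y * m⁻¹) * q⁻¹ * (m * y * m⁻¹)⁻¹) * (m * y * m⁻¹) * d2⁻¹ *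
        (m * y * m⁻¹)⁻¹ := by
    rw [hq]; group
  rw [e]
  rcases h.toCfg.comm_mem hm.2 hy' with k | k
  · rw [k, mul_one]; exact key
  · rw [k]
    have : d2 * z * (m * y * m⁻¹) * d2⁻¹ * (m * y * m⁻¹)⁻¹ =
        z * (d2 * (m * y * m⁻¹) * d2⁻¹ * (m * y * m⁻¹)⁻¹) := by
      rw [h.d2z]; group
    rw [this]
    exact LH.zmul h.zz key

/-- `N_s` acts on `⟨z, a, s⟩` -/
theorem hl {m : G} (hm : NS O z d2 m) : LH z a s (m * a * m⁻¹) ∧ LH z a s (m * s * m⁻¹) := by
  constructor
  · obtain ⟨u, hu, hua, hud⟩ := h.exu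
    have : d2 * u * d2⁻¹ * u⁻¹ = a := by
      calc d2 * u * d2⁻¹ * u⁻¹ = a⁻¹ * (a * d2 * u) * d2⁻¹ * u⁻¹ := by group
        _ = a⁻¹ * (u * d2) * d2⁻¹ * u⁻¹ := by rw [hud]
        _ = a⁻¹ := by group
        _ = a := inv_eq_of_mul_eq_one_left h.aa
    have k := hl_aux h hm hu
    rwa [this] at k
  · have : d2 * w * d2⁻¹ * w⁻¹ = s := by
      rw [h.hs, h.hd3, h.inv2]
      calc d2 * w * d2 * w⁻¹ = d2 * (w * d2 * w⁻¹) := by group
        _ = _ := rfl
    have k := hl_aux h hm h.hw
    rwa [this] at k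

theorem s1 : s ≠ 1 := fun k => h.snO (k ▸ one_mem _)

theorem sz1 : s ≠ z := fun k => h.snO (k ▸ h.toCfg.symm.aO)

/-- **(b2)**: `C_{M_1}(σ)` fixes `e`. -/
theorem ef_two (VC : Subgroup G) (hVab : ∀ x ∈ VC, ∀ y ∈ VC, x * y = y * x)
    (hVn : ∀ c, c * d = d * c → ∀ x ∈ VC, c * x * c⁻¹ ∈ VC) (hVz : z ∈ VC) (hVw : w ∈ VC)
    {m : G} (hm : NS O z d2 m) : m * a * m⁻¹ = a ∨ m * a * m⁻¹ = z * a := by
  have hdd : d2 * d = d * d2 := (h.toCfg.dd h.dD h.hd2).symm
  have hzz := h.zz
  have haa := h.aa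
  have hsV : s ∈ VC := by
    have h1 := mul_mem (hVn d2 hdd w hVw) (inv_mem hVw)
    have : s = d2 * w * d2⁻¹ * w⁻¹ := by rw [h.hs, h.hd3, h.inv2]; group
    rw [this]; exact h1
  have haV : a ∉ VC := fun k => h.nwa (hVab w hVw a k)
  -- the elements of `VC` in `LH`
  have hVL : ∀ x ∈ VC, LH z a s x → x ≠ 1 → x ≠ z → x = s ∨ x = z * s := by
    intro x hx hL h1 h2
    have hza : z * a ∉ VC := by
      intro k
      apply haV
      have := mul_mem hVz k
      rwa [← mul_assoc, hzz, one_mul] at this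
    rcases hL with (k | k | k | k) | (k | k | k | k)
    · exact absurd k h1
    · exact absurd k h2
    · exact absurd (k ▸ hx) haV
    · exact absurd (k ▸ hx) hza
    · exact Or.inl k
    · exact Or.inr k
    · exfalso; apply haV
      have := mul_mem (k ▸ hx) (inv_mem hsV)
      rwa [mul_inv_cancel_right] at this
    · exfalso; apply hza
      have := mul_mem (k ▸ hx) (inv_mem hsV)
      rwa [mul_inv_cancel_right] at this
  -- elements of `N_s` commuting with `d` fix `s` modulo `z`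
  have fixs : ∀ m, NS O z d2 m → m * d = d * m → m * s * m⁻¹ = s ∨ m * s * m⁻¹ = z * s := by
    intro m hm hmd
    refine hVL _ (hVn m hmd s hsV) (hl h hm).2 ?_ ?_
    · intro k
      apply s1 h
      have : m * s * m⁻¹ = m * 1 * m⁻¹ := by rw [k]; group
      exact mul_left_cancel (mul_right_cancel this)
    · intro k
      apply sz1 h
      have : m * s * m⁻¹ = m * z * m⁻¹ := by rw [k, hm.1]; group
      exact mul_left_cancel (mul_right_cancel this)
  obtain ⟨u, hu, huz, hu3, hus⟩ := h.exu0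
  have hud2 : u * d2 = d2 * u := ((h.toCfg.symm.dp_iff.1 h.hd2).2 u hu).symm
  have hua : u * a = a * u := h.toCfg.symm.comm u hu
  have huN : NS O z d2 u := by
    refine ⟨huz, ?_⟩
    have : d2⁻¹ * (u * d2 * u⁻¹) = 1 := by rw [hud2]; group
    rw [this]; exact one_mem _
  -- `u` moves `d`
  have hudz : u * d * u⁻¹ = z * d := by
    rcases h.toLin.movD huz with k | k
    · exfalso
      have hc : u * d = d * u := by rw [mul_inv_eq_iff_eq_mul] at k; exact k
      have h1 : u * s * u⁻¹ = z * a * s := by rw [hus]; group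
      rcases fixs u huN hc with k' | k' <;> rw [h1] at k'
      · have : z * a = 1 := by simpa using k'
        apply h.az
        have e := congrArg (z * ·) this
        simp only [← mul_assoc, hzz, one_mul, mul_one] at e
        exact e
      · have : z * a = z := mul_right_cancel k'
        exact h.a1 (by simpa using this)
    · exact k
  have main : ∀ m, NS O z d2 m → m * d = d * m → m * a * m⁻¹ = a ∨ m * a * m⁻¹ = z * a := by
    intro m hm hmd
    have huN' := NS.inv h huN
    have hn : NS O z d2 (u⁻¹ * m * u) := NS.mul h (NS.mul h huN' hm) huN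
    have hnd : u⁻¹ * m * u * d = d * (u⁻¹ * m * u) := by
      have e1 : u * d = z * d * u := by rw [mul_inv_eq_iff_eq_mul] at hudz; exact hudz
      have e2 : u⁻¹ * z = z * u⁻¹ := huN'.1
      have e3 : u⁻¹ * d = z * d * u⁻¹ := by
        rw [inv_mul_eq_iff_eq_mul]
        calc d = z * (z * d * u) * u⁻¹ := by rw [← mul_assoc, ← mul_assoc, hzz]; group
          _ = z * u * d * u⁻¹ := by rw [← e1]; group
          _ = u * (z * d * u⁻¹) := by rw [← huz]; group
      calc u⁻¹ * m * u * d = u⁻¹ * m * (u * d) := by group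
        _ = u⁻¹ * (m * z) * d * u := by rw [e1]; group
        _ = u⁻¹ * z * (m * d) * u := by rw [hm.1]; group
        _ = u⁻¹ * z * d * m * u := by rw [hmd]; group
        _ = z * (u⁻¹ * d) * m * u := by rw [e2]; group
        _ = z * z * d * u⁻¹ * m * u := by rw [e3]; group
        _ = d * (u⁻¹ * m * u) := by rw [hzz]; group
    have k1 := fixs _ hn hnd
    have k2 := fixs m hm hmd
    have hust : u * s * u⁻¹ = z * a * s := by rw [hus]; group
    have e : m * (z * a * s) * m⁻¹ = u * (u⁻¹ * m * u * s * (u⁻¹ * m * u)⁻¹) * u⁻¹ := by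
      rw [← hust]; group
    have e2 : m * (z * a * s) * m⁻¹ = z * (m * a * m⁻¹) * (m * s * m⁻¹) := by
      have : m * (z * a * s) * m⁻¹ = m * z * a * s * m⁻¹ := by group
      rw [this, hm.1]; group
    rw [e2] at e
    have sz' : z * s = s * z := h.sz.symm
    rcases k1 with k1 | k1 <;> rcases k2 with k2 | k2 <;> rw [k1, k2] at e
    · left
      rw [hust] at e
      have := mul_right_cancel e
      exact mul_left_cancel this
    · right
      rw [hust] at e
      have e' : m * a * m⁻¹ * (z * s) = a * s := by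
        have := congrArg (z * ·) e
        simp only [← mul_assoc, hzz, one_mul] at this
        simpa [mul_assoc] using this
      have : m * a * m⁻¹ * z = a := by
        apply mul_right_cancel (b := s); rw [← e']; group
      have h2 := congrArg (· * z) this
      simp only [mul_assoc, hzz, mul_one] at h2
      rw [← h.za] at h2
      simpa [mul_assoc] using h2
    · right
      have e3 : u * (z * s) * u⁻¹ = a * s := by
        calc u * (z * s) * u⁻¹ = u * z * s * u⁻¹ := by group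
          _ = z * (u * s * u⁻¹) := by rw [huz]; group
          _ = a * s := by rw [hust, ← mul_assoc, ← mul_assoc, hzz, one_mul]
      rw [e3] at e
      have := mul_right_cancel e
      have h2 := congrArg (z * ·) this
      simp only [← mul_assoc, hzz, one_mul] at h2
      simpa [mul_assoc] using h2
    · left
      have e3 : u * (z * s) * u⁻¹ = a * s := by
        calc u * (z * s) * u⁻¹ = u * z * s * u⁻¹ := by group
          _ = z * (u * s * u⁻¹) := by rw [huz]; group
          _ = a * s := by rw [hust, ← mul_assoc, ← mul_assoc, hzz, one_mul]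
      rw [e3] at e
      have hmz : m * a * m⁻¹ * z = z * (m * a * m⁻¹) := by
        have e1 : m⁻¹ * z = z * m⁻¹ := (NS.inv h hm).1
        calc m * a * m⁻¹ * z = m * a * (m⁻¹ * z) := by group
          _ = m * (a * z) * m⁻¹ := by rw [e1]; group
          _ = m * z * a * m⁻¹ := by rw [← h.za]; group
          _ = z * (m * a * m⁻¹) := by rw [hm.1]; group
      have e4 : z * (m * a * m⁻¹) * (z * s) = m * a * m⁻¹ * s := by
        calc z * (m * a * m⁻¹) * (z * s) = z * (m * a * m⁻¹ * z) * s := by group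
          _ = z * z * (m * a * m⁻¹) * s := by rw [hmz]; group
          _ = m * a * m⁻¹ * s := by rw [hzz, one_mul]
      rw [e4] at e
      exact mul_right_cancel e
  rcases h.toLin.movD hm.1 with k | k
  · refine main m hm ?_
    rw [mul_inv_eq_iff_eq_mul] at k; exact k
  · have hmu := NS.mul h hm huN
    have hmud : m * u * d = d * (m * u) := by
      have e1 : u * d = z * d * u := by rw [mul_inv_eq_iff_eq_mul] at hudz; exact hudz
      have e2 : m * d = z * d * m := by rw [mul_inv_eq_iff_eq_mul] at k; exact k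
      calc m * u * d = m * (u * d) := by group
        _ = m * z * d * u := by rw [e1]; group
        _ = z * (m * d) * u := by rw [hm.1]; group
        _ = z * z * d * m * u := by rw [e2]; group
        _ = d * (m * u) := by rw [hzz]; group
    have := main _ hmu hmud
    have e : m * u * a * (m * u)⁻¹ = m * a * m⁻¹ := by
      calc m * u * a * (m * u)⁻¹ = m * (u * a) * u⁻¹ * m⁻¹ := by group
        _ = m * a * m⁻¹ := by rw [hua]; group
    rwa [e] at this

end

end Cfsg.Agent.Omega.FFTwoA.BTwo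

end

-- merged: Cfsg.Agent.Omega.FFTwoA.Inter
section

/-!
# FF-2a: `I = O z ∩ O a` and the bijection (F1)
-/

set_option autoImplicit false

namespace Cfsg.Agent.Omega.FFTwoA.Inter

open Cfsg.Agent.Omega.FFTwoA.Main Cfsg.Agent.Omega.FFTwoA.Four

variable {G : Type*} [Group G] {O : G → Subgroup G} {z a : G}

/-- `O z ∩ O a ≤ O (z a)` -/
theorem inO3 (h : Cfg O z a) {x : G} (hx : x ∈ O z) (hxa : x ∈ O a) : x ∈ O (z * a) := by
  obtain ⟨w, hw, hwa, _, _⟩ := h.w0
  have h1 : w * x * w⁻¹ ∈ O (z * a) := by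
    have := (h.eqv.mem_iff w a x).2 hxa
    rwa [hwa] at this
  have hzO : z ∈ O (z * a) := h.third.aO
  have e : x = (w * x * w⁻¹ * x⁻¹)⁻¹ * (w * x * w⁻¹) := by group
  rw [e]
  refine mul_mem (inv_mem ?_) h1
  rcases h.comm_mem hw.1 hx with k | k <;> rw [k]
  · exact one_mem _
  · exact hzO

theorem Iab (h : Cfg O z a) {x y : G} (hx : x ∈ O z) (hxa : x ∈ O a) (hy : y ∈ O z)
    (hya : y ∈ O a) : x * y = y * x := by
  rcases h.comm_mem hx hy with k | k
  · rw [mul_inv_eq_one, mul_inv_eq_iff_eq_mul] at k; exact k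
  · rcases h.symm.comm_mem hxa hya with k' | k'
    · rw [mul_inv_eq_one, mul_inv_eq_iff_eq_mul] at k'; exact k'
    · exact absurd (k'.symm.trans k) h.az

theorem Isq (h : Cfg O z a) {x : G} (hx : x ∈ O z) (hxa : x ∈ O a) : x * x = 1 := by
  rcases h.sq hx with k | k
  · exact k
  · rcases h.symm.sq hxa with k' | k'
    · exact k'
    · exact absurd (k'.symm.trans k) h.az

/-- `O a ∩ O (z a) ≤ O z` -/
theorem inO1 (h : Cfg O z a) {x : G} (hx : x ∈ O a) (hxa : x ∈ O (z * a)) : x ∈ O z := by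
  have := inO3 h.rot' hx hxa
  rwa [aza h.za h.aa] at this

theorem Ig (h : Cfg O z a) {g x : G} (hg : g * z = z * g)
    (hga : g * a * g⁻¹ = a ∨ g * a * g⁻¹ = z * a) (hx : x ∈ O z) (hxa : x ∈ O a) :
    g * x * g⁻¹ ∈ O z ∧ g * x * g⁻¹ ∈ O a := by
  have h1 : g * x * g⁻¹ ∈ O z := h.eqv.mem_conj hx hg
  refine ⟨h1, ?_⟩
  have h2 := (h.eqv.mem_iff g a x).2 hxa
  rw [MulAut.conj_apply g a] at h2
  rcases hga with k | k <;> rw [k] at h2
  · exact h2
  · have := inO3 h.swap h1 h2
    rwa [← mul_assoc, h.zz, one_mul] at this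

/-- **(F1)** -/
theorem f1 [Finite G] (h : Cfg O z a) {y x : G} (hy : y ∈ O z) (hya : ¬ y * a = a * y)
    (hx : x ∈ O z) (hxa : x * a = a * x) :
    ∃ u ∈ O a, u * z = z * u ∧ u * y * u⁻¹ * y⁻¹ * x ∈ O a := by
  classical
  set U1 : Subgroup G := O z ⊓ Subgroup.centralizer {a} with hU1
  set U2 : Subgroup G := O a ⊓ Subgroup.centralizer {z} with hU2
  set I : Subgroup G := O z ⊓ O a with hI
  have mU1 : ∀ x, x ∈ U1 ↔ x ∈ O z ∧ x * a = a * x := by
    intro x
    rw [hU1, Subgroup.mem_inf, Subgroup.mem_centralizer_singleton_iff]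
  have mU2 : ∀ x, x ∈ U2 ↔ x ∈ O a ∧ x * z = z * x := by
    intro x
    rw [hU2, Subgroup.mem_inf, Subgroup.mem_centralizer_singleton_iff]
  have I1 : I ≤ U1 := fun x hx => (mU1 x).2 ⟨hx.1, h.symm.comm x hx.2⟩
  have I2 : I ≤ U2 := fun x hx => (mU2 x).2 ⟨hx.2, h.comm x hx.1⟩
  have hzI : z ∈ I := ⟨h.zO, h.symm.aO⟩
  have hyz := h.comm y hy
  have hya' := ncomm h hy hya
  -- commutators
  have c12 : ∀ u ∈ U2, ∀ v ∈ U1, u * v * u⁻¹ * v⁻¹ ∈ I := by
    intro u hu v hv
    have hu' := (mU2 u).1 hu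
    have hv' := (mU1 v).1 hv
    rw [hI, Subgroup.mem_inf]
    refine ⟨mul_mem (h.eqv.mem_conj hv'.1 hu'.2) (inv_mem hv'.1), ?_⟩
    have : v * u⁻¹ * v⁻¹ ∈ O a := h.eqv.mem_conj (inv_mem hu'.1) hv'.2
    have := mul_mem hu'.1 this
    have e : u * v * u⁻¹ * v⁻¹ = u * (v * u⁻¹ * v⁻¹) := by group
    rw [e]; exact this
  have c11 : ∀ u ∈ U1, ∀ v ∈ U1, u * v * u⁻¹ * v⁻¹ ∈ I := by
    intro u hu v hv
    rcases h.comm_mem ((mU1 u).1 hu).1 ((mU1 v).1 hv).1 with k | k <;> rw [k]
    · exact one_mem _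
    · exact hzI
  have fU : ∀ u ∈ U2, u * y * u⁻¹ * y⁻¹ ∈ U1 := by
    intro u hu
    have hu' := (mU2 u).1 hu
    have hua := h.symm.comm u hu'.1
    rw [mU1]
    refine ⟨mul_mem (h.eqv.mem_conj hy hu'.2) (inv_mem hy), ?_⟩
    have e1 : y⁻¹ * a = z * a * y⁻¹ := by
      rw [inv_mul_eq_iff_eq_mul, ← mul_assoc, ← mul_assoc, hyz, mul_assoc z y a, hya',
        ← mul_assoc, ← mul_assoc, h.zz]
      group
    have e2 : u⁻¹ * (z * a) = z * a * u⁻¹ := by
      rw [inv_mul_eq_iff_eq_mul, ← mul_assoc, ← mul_assoc, hu'.2, mul_assoc z u a, hua]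
      group
    have e3 : y * (z * a) = a * y := by
      rw [← mul_assoc, hyz, mul_assoc, hya', ← mul_assoc, ← mul_assoc, h.zz, one_mul]
    calc u * y * u⁻¹ * y⁻¹ * a = u * y * u⁻¹ * (y⁻¹ * a) := by group
      _ = u * y * (u⁻¹ * (z * a)) * y⁻¹ := by rw [e1]; group
      _ = u * (y * (z * a)) * u⁻¹ * y⁻¹ := by rw [e2]; group
      _ = u * a * y * u⁻¹ * y⁻¹ := by rw [e3]; group
      _ = a * (u * y * u⁻¹ * y⁻¹) := by rw [hua]; group
  set N : Subgroup U1 := I.subgroupOf U1 with hN
  have hNn : N.Normal := by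
    constructor
    rintro ⟨n, hn⟩ hnN ⟨g, hg⟩
    have hn' : n ∈ I := hnN
    change g * n * g⁻¹ ∈ I
    have := mul_mem (c11 g hg n hn) hn'
    rwa [inv_mul_cancel_right] at this
  let φ : U2 →* U1 ⧸ N :=
    { toFun := fun u => QuotientGroup.mk ⟨(u : G) * y * (u : G)⁻¹ * y⁻¹, fU u u.2⟩
      map_one' := by
        rw [QuotientGroup.eq_one_iff]
        change ((1 : G) * y * (1 : G)⁻¹ * y⁻¹) ∈ I
        have : ((1 : G) * y * (1 : G)⁻¹ * y⁻¹) = 1 := by group
        rw [this]; exact one_mem _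
      map_mul' := by
        rintro ⟨u, hu⟩ ⟨v, hv⟩
        rw [← QuotientGroup.mk_mul, QuotientGroup.eq]
        change ((u * v) * y * (u * v)⁻¹ * y⁻¹)⁻¹ * ((u * y * u⁻¹ * y⁻¹) * (v * y * v⁻¹ * y⁻¹)) ∈ I
        have h1 := c12 u hu _ (fU v hv)
        have h2 := c11 _ (fU u hu) _ (fU v hv)
        have e : ((u * v) * y * (u * v)⁻¹ * y⁻¹)⁻¹ *
            ((u * y * u⁻¹ * y⁻¹) * (v * y * v⁻¹ * y⁻¹)) =
            ((u * v) * y * (u * v)⁻¹ * y⁻¹)⁻¹ *
            (((u * y * u⁻¹ * y⁻¹) * (v * y * v⁻¹ * y⁻¹) * (u * y * u⁻¹ * y⁻¹)⁻¹ *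
              (v * y * v⁻¹ * y⁻¹)⁻¹) * (u * (v * y * v⁻¹ * y⁻¹) * u⁻¹ *
              (v * y * v⁻¹ * y⁻¹)⁻¹)⁻¹) * ((u * v) * y * (u * v)⁻¹ * y⁻¹) := by group
        rw [e]
        have h3 := mul_mem h2 (inv_mem h1)
        have h4 : ((u * v) * y * (u * v)⁻¹ * y⁻¹)⁻¹ ∈ U1 := inv_mem (fU _ (mul_mem hu hv))
        have h5 := mul_mem (c11 _ h4 _ (I1 h3)) h3
        rw [inv_mul_cancel_right, inv_inv] at h5
        exact h5 }
  -- kernel
  have hker : φ.ker = I.subgroupOf U2 := by
    ext ⟨u, hu⟩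
    rw [MonoidHom.mem_ker, Subgroup.mem_subgroupOf]
    change (QuotientGroup.mk (⟨u * y * u⁻¹ * y⁻¹, fU u hu⟩ : U1) : U1 ⧸ N) = 1 ↔ u ∈ I
    rw [QuotientGroup.eq_one_iff]
    change u * y * u⁻¹ * y⁻¹ ∈ I ↔ u ∈ I
    have hu' := (mU2 u).1 hu
    constructor
    · intro k
      have h1 : y * u⁻¹ * y⁻¹ ∈ O a := by
        have := mul_mem (inv_mem hu'.1) k.2
        convert this using 1; group
      have h2 : y * u⁻¹ * y⁻¹ ∈ O (z * a) := by
        have := (h.eqv.mem_iff y a u⁻¹).2 (inv_mem hu'.1)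
        rwa [MulAut.conj_apply y a, hya', mul_assoc, mul_inv_cancel, mul_one] at this
      have h3 : y * u⁻¹ * y⁻¹ ∈ O z := inO1 h h1 h2
      rw [hI, Subgroup.mem_inf]
      refine ⟨?_, hu'.1⟩
      have := mul_mem (mul_mem (inv_mem hy) (inv_mem h3)) hy
      have e : u = y⁻¹ * (y * u⁻¹ * y⁻¹)⁻¹ * y := by group
      rw [e]; exact this
    · intro k
      rw [hI, Subgroup.mem_inf]
      refine ⟨mul_mem (h.eqv.mem_conj hy hu'.2) (inv_mem hy), ?_⟩
      have h1 : y * u⁻¹ * y⁻¹ ∈ O z ∧ y * u⁻¹ * y⁻¹ ∈ O a :=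
        Ig h hyz (Or.inr (by rw [hya', mul_assoc, mul_inv_cancel, mul_one])) (inv_mem k.1)
          (inv_mem k.2)
      have := mul_mem k.2 h1.2
      have e : u * y * u⁻¹ * y⁻¹ = u * (y * u⁻¹ * y⁻¹) := by group
      rw [e]; exact this
  -- cardinalities
  obtain ⟨g, hg, g1, g2, g3⟩ := h.third.w0
  have hza : z * a * z = a := by rw [h.za, mul_assoc, h.zz, mul_one]
  rw [hza] at g1 g3
  have hcard : Nat.card U1 = Nat.card U2 := by
    have : U1.map (MulAut.conj g).toMonoidHom = U2 := by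
      ext x
      constructor
      · rintro ⟨t, ht, rfl⟩
        have ht' := (mU1 t).1 ht
        rw [mU2]
        refine ⟨?_, ?_⟩
        · have := (h.eqv.mem_iff g z t).2 ht'.1
          rwa [g1] at this
        · have := congrArg (MulAut.conj g) ht'.2
          rw [map_mul, map_mul, g3] at this
          exact this
      · intro hx
        have hx' := (mU2 x).1 hx
        have ex : MulAut.conj g ((MulAut.conj g).symm x) = x := MulEquiv.apply_symm_apply _ _
        refine ⟨(MulAut.conj g).symm x, ?_, ex⟩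
        rw [SetLike.mem_coe, mU1]
        refine ⟨?_, ?_⟩
        · rw [← h.eqv.mem_iff g, g1, ex]; exact hx'.1
        · apply (MulAut.conj g).injective
          rw [map_mul, map_mul, g3, ex]; exact hx'.2
    rw [← this]
    exact (Nat.card_congr (U1.equivMapOfInjective _ (MulAut.conj g).injective).toEquiv)
  have hk : Nat.card φ.ker = Nat.card I := by
    rw [hker]
    exact Nat.card_congr (Subgroup.subgroupOfEquivOfLe I2).toEquiv
  have hNc : Nat.card N = Nat.card I := Nat.card_congr (Subgroup.subgroupOfEquivOfLe I1).toEquiv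
  have e1 : Nat.card φ.ker * φ.ker.index = Nat.card U2 := Subgroup.card_mul_index _
  have e2 : Nat.card N * N.index = Nat.card U1 := Subgroup.card_mul_index _
  rw [Subgroup.index_ker, hk] at e1
  rw [hNc] at e2
  have hIpos : 0 < Nat.card I := Nat.card_pos
  have e3 : Nat.card φ.range = Nat.card (U1 ⧸ N) := by
    have : Nat.card I * Nat.card φ.range = Nat.card I * N.index := by rw [e1, e2, hcard]
    exact Nat.eq_of_mul_eq_mul_left hIpos this
  have hsurj : φ.range = ⊤ := Subgroup.eq_top_of_card_eq _ e3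
  have hxU : x⁻¹ ∈ U1 := inv_mem ((mU1 x).2 ⟨hx, hxa⟩)
  have : (QuotientGroup.mk (⟨x⁻¹, hxU⟩ : U1) : U1 ⧸ N) ∈ φ.range := by
    rw [hsurj]; trivial
  obtain ⟨⟨u, hu⟩, huφ⟩ := this
  have hu' := (mU2 u).1 hu
  refine ⟨u, hu'.1, hu'.2, ?_⟩
  change (QuotientGroup.mk (⟨u * y * u⁻¹ * y⁻¹, fU u hu⟩ : U1) : U1 ⧸ N) = _ at huφ
  rw [QuotientGroup.eq] at huφ
  have hm : (u * y * u⁻¹ * y⁻¹)⁻¹ * x⁻¹ ∈ I := huφ
  have hc := c11 _ (inv_mem hxU) _ (fU u hu)
  rw [inv_inv] at hc
  have : u * y * u⁻¹ * y⁻¹ * x = (x * (u * y * u⁻¹ * y⁻¹) * x⁻¹ * (u * y * u⁻¹ * y⁻¹)⁻¹)⁻¹ *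
      ((u * y * u⁻¹ * y⁻¹)⁻¹ * x⁻¹)⁻¹ * 1 := by group
  have h6 : ((u * y * u⁻¹ * y⁻¹)⁻¹ * x⁻¹)⁻¹ = x * (u * y * u⁻¹ * y⁻¹) := by group
  have h7 : x * (u * y * u⁻¹ * y⁻¹) ∈ O a := by
    rw [← h6]; exact (inv_mem hm).2
  have h8 : u * y * u⁻¹ * y⁻¹ * x =
      (x * (u * y * u⁻¹ * y⁻¹) * x⁻¹ * (u * y * u⁻¹ * y⁻¹)⁻¹)⁻¹ *
        (x * (u * y * u⁻¹ * y⁻¹)) := by group
  rw [h8]
  exact mul_mem (inv_mem hc.2) h7

end Cfsg.Agent.Omega.FFTwoA.Inter

end

-- merged: Cfsg.Agent.Mrg.Omega.FFTwoA.Glue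
section

/-!
# FF-2a (7): EF is contradictory
-/

set_option autoImplicit false

namespace Cfsg.Agent.Omega.FFTwoA.Glue

open Cfsg.Agent.Omega.FFTwoA.Main Cfsg.Agent.Omega.FFTwoA.Four Cfsg.Agent.Omega.FFTwoA.Line
open Cfsg.Agent.Omega.FFTwoA.Quot Cfsg.Agent.Omega.FFTwoA.BTwo Cfsg.Agent.Omega.FFTwoA.Inter

universe u

variable {G : Type u} [Group G] {O : G → Subgroup G} {z a d w d2 d3 s : G}

/-- If `C_{C(z)}(σ)` fixes `e`, the conjugates of `a` under `C(z)` commute with `a`. -/
theorem orth [Finite G] (h : Line.Dat O z a d w d2 d3 s)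
    (ef : ∀ m, NS O z d2 m → m * a * m⁻¹ = a ∨ m * a * m⁻¹ = z * a) :
    ∀ m, m * z = z * m → m * a * m⁻¹ * a = a * (m * a * m⁻¹) := by
  classical
  obtain ⟨E, _, _, ρ, π, B, hS⟩ := exists_sp h.toCfg
  have two : ∀ x : E, x + x = 0 := End.two
  set A : Subgroup (Subgroup.centralizer ({z} : Set G)) := (O a).subgroupOf _ with hA
  have mA : ∀ g : Subgroup.centralizer ({z} : Set G), g ∈ A ↔ (g : G) ∈ O a := fun g => Iff.rfl
  have mz : ∀ g : Subgroup.centralizer ({z} : Set G), (g : G) * z = z * g := fun g =>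
    Subgroup.mem_centralizer_singleton_iff.1 g.2
  have π1 : π 1 = 0 := (hS.ker 1).2 (Or.inl rfl)
  have πz : π ⟨z, h.zO⟩ = 0 := (hS.ker _).2 (Or.inr rfl)
  have πeq : ∀ x y : O z, π x = π y ↔ (y : G) = x ∨ (y : G) = z * x := by
    intro x y
    have hyz := h.comm y y.2
    have hxz := h.comm x x.2
    constructor
    · intro k
      have h1 : π (x⁻¹ * y) = 0 := by
        have h2 : π (x⁻¹ * x) = 0 := by rw [inv_mul_cancel, π1]
        rw [hS.mul] at h2 ⊢
        rw [← k, h2]
      rw [hS.ker] at h1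
      rcases h1 with h1 | h1
      · left
        have : (x : G)⁻¹ * y = 1 := h1
        rw [inv_mul_eq_one] at this; exact this.symm
      · right
        have : (x : G)⁻¹ * y = z := h1
        rw [inv_mul_eq_iff_eq_mul] at this
        rw [this, hxz]
    · rintro (k | k)
      · rw [Subtype.ext k]
      · have : y = ⟨z, h.zO⟩ * x := Subtype.ext k
        rw [this, hS.mul, πz, zero_add]
  set e : E := π ⟨a, h.aO⟩ with he
  set sb : E := π ⟨s, h.sO⟩ with hsb
  have bcases := End.zcases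
  have B0 : ∀ x y : O z, B (π x) (π y) = 0 ↔ (x : G) * y = y * x := hS.form
  have B1 : ∀ x y : O z, B (π x) (π y) = 1 ↔ (x : G) * y = z * y * x := by
    intro x y
    constructor
    · intro k
      have hn : ¬ (x : G) * y = y * x := by
        intro k'
        rw [← B0, k] at k'
        exact absurd k' (by decide)
      rcases h.toCfg.comm_mem x.2 y.2 with k1 | k1 <;>
        rw [mul_inv_eq_iff_eq_mul, mul_inv_eq_iff_eq_mul] at k1
      · exact absurd (by rw [k1, one_mul]) hn
      · exact k1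
    · intro k
      rcases bcases (B (π x) (π y)) with k1 | k1
      · rw [B0, k] at k1
        exfalso
        apply h.z1
        rw [mul_assoc] at k1
        exact mul_eq_right.1 k1
      · exact k1
  set D : AddSubgroup E :=
    { carrier := {v | ∃ x : O z, (x : G) ∈ O a ∧ π x = v}
      add_mem' := by
        rintro _ _ ⟨x, hx, rfl⟩ ⟨y, hy, rfl⟩
        exact ⟨x * y, mul_mem hx hy, hS.mul x y⟩
      zero_mem' := ⟨1, one_mem _, π1⟩
      neg_mem' := by
        rintro _ ⟨x, hx, rfl⟩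
        refine ⟨x, hx, ?_⟩
        rw [eq_neg_iff_add_eq_zero]; exact two _ } with hD
  have hzOa : z ∈ O a := h.toCfg.symm.aO
  have mD : ∀ x : O z, π x ∈ D ↔ (x : G) ∈ O a := by
    intro x
    constructor
    · rintro ⟨y, hy, k⟩
      rw [πeq] at k
      rcases k with k | k <;> rw [k]
      · exact hy
      · exact mul_mem hzOa hy
    · intro k
      exact ⟨x, k, rfl⟩
  have actπ : ∀ (g : Subgroup.centralizer ({z} : Set G)) (x : O z),
      ρ g (π x) = π ⟨g * x * (g : G)⁻¹, h.eqv.mem_conj x.2 (mz g)⟩ := fun g x =>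
    (hS.act g x _ rfl).symm
  have hd2c : d2 ∈ Subgroup.centralizer ({z} : Set G) :=
    Subgroup.mem_centralizer_singleton_iff.2 h.d2z
  have negE : ∀ x : O z, π x⁻¹ = π x := by
    intro x
    have h2 : π (x * x⁻¹) = 0 := by rw [mul_inv_cancel, π1]
    rw [hS.mul] at h2
    exact (End.eq_of_add h2).symm
  have data : End.Dat ρ B A D ⟨d2, hd2c⟩ e sb := by
    refine
    { add := ?_, symm := ?_, alt := ?_, isom := ?_, fix := ?_, sq := ?_, sur := ?_, perp := ?_,
      norm := ?_, De := ?_, sA := ?_, sig := ?_, es := ?_, Ds := ?_, sD := ?_, seD := ?_,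
      rad := ?_, rad' := ?_, mov := ?_, ef := ?_ }
    · intro x y v
      obtain ⟨x, rfl⟩ := hS.surj x
      obtain ⟨y, rfl⟩ := hS.surj y
      obtain ⟨v, rfl⟩ := hS.surj v
      rw [← hS.mul]
      have hxz := h.comm x x.2
      have hzz := h.zz
      rcases bcases (B (π x) (π v)) with k1 | k1 <;> rcases bcases (B (π y) (π v)) with k2 | k2
      · rw [k1, k2, add_zero, B0]
        rw [B0] at k1 k2
        change (x : G) * y * v = v * (x * y)
        rw [mul_assoc, k2, ← mul_assoc, k1, mul_assoc]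
      · rw [k1, k2, zero_add, B1]
        rw [B0] at k1; rw [B1] at k2
        change (x : G) * y * v = z * v * (x * y)
        calc (x : G) * y * v = x * (y * v) := by group
          _ = x * z * v * y := by rw [k2]; group
          _ = z * (x * v) * y := by rw [hxz]; group
          _ = z * v * (x * y) := by rw [k1]; group
      · rw [k1, k2, add_zero, B1]
        rw [B1] at k1; rw [B0] at k2
        change (x : G) * y * v = z * v * (x * y)
        calc (x : G) * y * v = x * (y * v) := by group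
          _ = x * v * y := by rw [k2]; group
          _ = z * v * (x * y) := by rw [k1]; group
      · rw [k1, k2, show (1 : ZMod 2) + 1 = 0 from rfl, B0]
        rw [B1] at k1 k2
        change (x : G) * y * v = v * (x * y)
        calc (x : G) * y * v = x * (y * v) := by group
          _ = x * z * v * y := by rw [k2]; group
          _ = z * (x * v) * y := by rw [hxz]; group
          _ = z * z * v * (x * y) := by rw [k1]; group
          _ = v * (x * y) := by rw [hzz, one_mul]
    · intro x y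
      obtain ⟨x, rfl⟩ := hS.surj x
      obtain ⟨y, rfl⟩ := hS.surj y
      rcases bcases (B (π x) (π y)) with k1 | k1
      · rw [k1, eq_comm, B0]
        rw [B0] at k1; exact k1.symm
      · rw [k1, eq_comm, B1]
        rw [B1] at k1
        calc (y : G) * x = z * z * (y * x) := by rw [h.zz, one_mul]
          _ = z * (z * y * x) := by group
          _ = z * x * y := by rw [← k1]; group
    · intro x
      obtain ⟨x, rfl⟩ := hS.surj x
      rw [B0]
    · intro g x y
      obtain ⟨x, rfl⟩ := hS.surj x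
      obtain ⟨y, rfl⟩ := hS.surj y
      rw [actπ, actπ]
      rcases bcases (B (π x) (π y)) with k1 | k1
      · rw [k1, B0]
        rw [B0] at k1
        change (g : G) * x * (g : G)⁻¹ * (g * y * (g : G)⁻¹) =
          (g : G) * y * (g : G)⁻¹ * (g * x * (g : G)⁻¹)
        calc (g : G) * x * (g : G)⁻¹ * (g * y * (g : G)⁻¹) = g * (x * y) * (g : G)⁻¹ := by group
          _ = _ := by rw [k1]; group
      · rw [k1, B1]
        rw [B1] at k1
        change (g : G) * x * (g : G)⁻¹ * (g * y * (g : G)⁻¹) =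
          z * ((g : G) * y * (g : G)⁻¹) * (g * x * (g : G)⁻¹)
        calc (g : G) * x * (g : G)⁻¹ * (g * y * (g : G)⁻¹) = g * (x * y) * (g : G)⁻¹ := by group
          _ = g * z * y * x * (g : G)⁻¹ := by rw [k1]; group
          _ = _ := by rw [mz g]; group
    · intro g hg
      have hga := h.toCfg.symm.comm g ((mA g).1 hg)
      rw [he, actπ, πeq]
      left
      change a = (g : G) * a * (g : G)⁻¹
      rw [hga, mul_assoc, mul_inv_cancel, mul_one]
    · intro g hg x
      obtain ⟨x, rfl⟩ := hS.surj x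
      have hgO := (mA g).1 hg
      rw [actπ, actπ, πeq]
      change (x : G) = g * (g * x * (g : G)⁻¹) * (g : G)⁻¹ ∨
        (x : G) = z * (g * (g * x * (g : G)⁻¹) * (g : G)⁻¹)
      have e1 : (g : G) * (g * x * (g : G)⁻¹) * (g : G)⁻¹ = g * g * x * ((g : G) * g)⁻¹ := by group
      rw [e1]
      rcases h.toCfg.symm.sq hgO with k | k <;> rw [k]
      · left; group
      · rcases h.toCfg.comm_mem h.aO x.2 with k1 | k1 <;> rw [mul_inv_eq_iff_eq_mul] at k1
        · left; rw [k1, one_mul]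
        · right; rw [k1, ← mul_assoc, h.zz, one_mul]
    · intro x hx y hy
      obtain ⟨x, rfl⟩ := hS.surj x
      obtain ⟨y, rfl⟩ := hS.surj y
      rw [he, B1] at hx
      rw [he, B0] at hy
      have hxa : ¬ (x : G) * a = a * x := by
        intro k
        change (x : G) * a = z * a * x at hx
        rw [k, mul_assoc] at hx
        exact h.z1 (mul_eq_right.1 hx.symm)
      obtain ⟨u, hu, huz, huD⟩ := f1 h.toCfg x.2 hxa y.2 hy
      have huc : u ∈ Subgroup.centralizer ({z} : Set G) :=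
        Subgroup.mem_centralizer_singleton_iff.2 huz
      refine ⟨⟨u, huc⟩, hu, ?_⟩
      rw [actπ, ← negE x, ← hS.mul, ← hS.mul, mD]
      exact huD
    · intro g hg y hy
      obtain ⟨y, rfl⟩ := hS.surj y
      rw [he, B0] at hy
      change (y : G) * a = a * y at hy
      have hgO := (mA g).1 hg
      rw [actπ, ← negE y, ← hS.mul, mD]
      change (g : G) * y * (g : G)⁻¹ * (y : G)⁻¹ ∈ O a
      have h1 : (y : G) * (g : G)⁻¹ * (y : G)⁻¹ ∈ O a := h.eqv.mem_conj (inv_mem hgO) hy
      have e1 : (g : G) * y * (g : G)⁻¹ * (y : G)⁻¹ = g * (y * (g : G)⁻¹ * (y : G)⁻¹) := by group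
      rw [e1]
      exact mul_mem hgO h1
    · intro g hg v hv
      obtain ⟨x, hx, rfl⟩ := hv
      rw [actπ, mD]
      rw [he, actπ, πeq] at hg
      have hga : (g : G) * a * (g : G)⁻¹ = a ∨ (g : G) * a * (g : G)⁻¹ = z * a := by
        rcases hg with k | k
        · left; exact k.symm
        · right
          change a = z * ((g : G) * a * (g : G)⁻¹) at k
          have := congrArg (z * ·) k
          simp only [← mul_assoc, h.zz, one_mul] at this
          simpa [mul_assoc] using this.symm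
      exact (Ig h.toCfg (mz g) hga x.2 hx).2
    · rintro _ ⟨x, hx, rfl⟩
      rw [he, B0]
      exact h.toCfg.symm.comm x hx
    · exact h.hd2.1
    · intro y
      obtain ⟨y, rfl⟩ := hS.surj y
      have hsbc : ∀ c : ZMod 2, c = 0 ∨ c = 1 := bcases
      rw [actπ]
      have hn := h.n1 y.2
      have π2 : ∀ x y v : O z, π (x * y * v) = π x + π y + π v := by
        intro x y v; rw [hS.mul, hS.mul]
      rcases hn with k | k | k | k
      · have e1 : B (π y) e = 0 := (B0 y ⟨a, h.aO⟩).2 k.1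
        have e2 : B (π y) sb = 0 := (B0 y ⟨s, h.sO⟩).2 k.2.1
        rw [e1, e2, zero_smul, zero_smul, add_zero, add_zero, πeq]
        left
        change (y : G) = d2 * y * d2⁻¹
        rw [k.2.2]; group
      · have e1 : B (π y) e = 0 := (B0 y ⟨a, h.aO⟩).2 k.1
        have e2 : B (π y) sb = 1 := (B1 y ⟨s, h.sO⟩).2 k.2.1
        rw [e1, e2, zero_smul, one_smul, add_zero, he, ← hS.mul, πeq]
        left
        change (y : G) * a = d2 * y * d2⁻¹
        rw [k.2.2, k.1]; group
      · have e1 : B (π y) e = 1 := (B1 y ⟨a, h.aO⟩).2 k.1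
        have e2 : B (π y) sb = 0 := (B0 y ⟨s, h.sO⟩).2 k.2.1
        rw [e1, e2, zero_smul, one_smul, add_zero, hsb, ← hS.mul, πeq]
        left
        change (y : G) * s = d2 * y * d2⁻¹
        rw [k.2.2, k.2.1]; group
      · have e1 : B (π y) e = 1 := (B1 y ⟨a, h.aO⟩).2 k.1
        have e2 : B (π y) sb = 1 := (B1 y ⟨s, h.sO⟩).2 k.2.1
        rw [e1, e2, one_smul, one_smul, hsb, he, ← hS.mul, ← hS.mul, πeq]
        right
        change (y : G) * s * a = z * (d2 * y * d2⁻¹)
        calc (y : G) * s * a = z * s * (y * a) := by rw [k.2.1]; group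
          _ = z * (s * z) * a * y := by rw [k.1]; group
          _ = z * z * (s * a) * y := by rw [h.sz]; group
          _ = z * (z * (s * a) * y * d2) * d2⁻¹ := by group
          _ = z * (d2 * y * d2⁻¹) := by rw [← k.2.2]; group
    · exact (B0 _ _).2 h.sa'.symm
    · rintro _ ⟨x, hx, rfl⟩
      rw [hsb, B0]
      change (x : G) * s = s * x
      have h1 : (x : G) * d2 = d2 * x := ((h.toCfg.symm.dp_iff.1 h.hd2).2 x hx).symm
      have h2 : (x : G) * d3 = d3 * x := by
        have h3 := inO3 h.toCfg x.2 hx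
        exact ((h.toCfg.third.dp_iff.1 h.dp3).2 x h3).symm
      rw [h.hs, ← mul_assoc, h1, mul_assoc, h2, mul_assoc]
    · rw [hsb, mD]; exact h.snO
    · rw [hsb, he, ← hS.mul, mD]
      intro k
      apply h.snO
      have := mul_mem k (inv_mem h.toCfg.symm.zO)
      change s * a * a⁻¹ ∈ O a at this
      rwa [mul_inv_cancel_right] at this
    · obtain ⟨u, hu, hua, hud⟩ := h.exu
      refine ⟨π ⟨u, hu⟩, ?_⟩
      rw [hsb, B1]
      change s * u = z * u * s
      rcases h.eff hu hua with k | k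
      · exfalso
        have h1 : d2 * u = a * d2 * u := by rw [← k.1, hud]
        have h2 : d2 = a * d2 := mul_right_cancel h1
        exact h.a1 (mul_eq_right.1 h2.symm)
      · calc s * u = z * z * (s * u) := by rw [h.zz, one_mul]
          _ = z * (z * s * u) := by group
          _ = z * u * s := by rw [← k.2.2]; group
    · obtain ⟨u, hu, hua, hud⟩ := h.exu
      refine ⟨π ⟨u, hu⟩, ?_⟩
      rw [hsb, he, ← hS.mul, B1]
      change s * a * u = z * u * (s * a)
      rcases h.eff hu hua with k | k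
      · exfalso
        have h1 : d2 * u = a * d2 * u := by rw [← k.1, hud]
        have h2 : d2 = a * d2 := mul_right_cancel h1
        exact h.a1 (mul_eq_right.1 h2.symm)
      · have e1 : s * u = z * u * s := by
          calc s * u = z * z * (s * u) := by rw [h.zz, one_mul]
            _ = z * (z * s * u) := by group
            _ = z * u * s := by rw [← k.2.2]; group
        calc s * a * u = s * (a * u) := by group
          _ = s * u * a := by rw [← hua]; group
          _ = z * u * (s * a) := by rw [e1]; group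
    · obtain ⟨u, hu, huz, _, hus⟩ := h.exu0
      have huc : u ∈ Subgroup.centralizer ({z} : Set G) :=
        Subgroup.mem_centralizer_singleton_iff.2 huz
      refine ⟨⟨u, huc⟩, hu, ?_⟩
      rw [hsb, he, actπ, ← hS.mul, πeq]
      right
      change s * a = z * (u * s * u⁻¹)
      rw [hus, h.sa']
      calc a * s = z * z * (a * s) := by rw [h.zz, one_mul]
        _ = z * (z * a * s * u * u⁻¹) := by group
    · intro g hg
      have ht : d2⁻¹ * ((g : G) * d2 * (g : G)⁻¹) ∈ O z := by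
        have htz : d2⁻¹ * ((g : G) * d2 * (g : G)⁻¹) * z =
            z * (d2⁻¹ * ((g : G) * d2 * (g : G)⁻¹)) := by
          have h1 : (⟨d2, hd2c⟩⁻¹ * (g * ⟨d2, hd2c⟩ * g⁻¹) :
              Subgroup.centralizer ({z} : Set G)) ∈ (⊤ : Subgroup _) := trivial
          exact mz (⟨d2, hd2c⟩⁻¹ * (g * ⟨d2, hd2c⟩ * g⁻¹))
        refine h.nt _ htz fun q hq => ?_
        have hact : ρ (⟨d2, hd2c⟩⁻¹ * (g * ⟨d2, hd2c⟩ * g⁻¹)) (π ⟨q, hq⟩) = π ⟨q, hq⟩ := by
          have h1 : ρ (⟨d2, hd2c⟩⁻¹ * (g * ⟨d2, hd2c⟩ * g⁻¹)) = 1 := by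
            rw [map_mul, map_mul, map_mul, hg, ← map_mul, ← map_mul, ← map_mul]
            have : (⟨d2, hd2c⟩⁻¹ * (⟨d2, hd2c⟩ * g * g⁻¹) :
              Subgroup.centralizer ({z} : Set G)) = 1 := by group
            rw [this, map_one]
          rw [h1]; rfl
        rw [actπ, πeq] at hact
        have hzD : Dp O z z := h.toCfg.dz
        have h1D : Dp O z 1 := by
          have := dp_mul hzD (dp_inv hzD)
          rwa [mul_inv_cancel] at this
        set t := d2⁻¹ * ((g : G) * d2 * (g : G)⁻¹) with htd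
        have hact' : q = t * q * t⁻¹ ∨ q = z * (t * q * t⁻¹) := hact
        rcases hact' with k | k
        · have : q * t * q⁻¹ * t⁻¹ = 1 := by
            have h2 : q * t = t * q := by rw [eq_mul_inv_iff_mul_eq] at k; exact k
            rw [h2]; group
          rw [this]; exact h1D
        · have : q * t * q⁻¹ * t⁻¹ = z := by
            have h2 : q * t = z * (t * q) := by
              rw [← mul_assoc, eq_mul_inv_iff_mul_eq] at k
              exact k
            rw [h2]; group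
          rw [this]; exact hzD
      rw [he, actπ, πeq]
      change a = (g : G) * a * (g : G)⁻¹ ∨ a = z * ((g : G) * a * (g : G)⁻¹)
      rcases ef g ⟨mz g, ht⟩ with k | k <;> rw [k]
      · left; rfl
      · right; rw [← mul_assoc, h.zz, one_mul]
  intro m hm
  have hmc : m ∈ Subgroup.centralizer ({z} : Set G) := Subgroup.mem_centralizer_singleton_iff.2 hm
  have := data.orth ⟨m, hmc⟩
  rw [he, actπ, B0] at this
  exact this.symm

end Cfsg.Agent.Omega.FFTwoA.Glue

end

-- merged: Cfsg.Agent.Omega.FFTwoA.BOne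
section

/-!
# FF-2a, case (b1): `C(d) ≤ C(z)`

bb OMEGA #12472, case (b1) of helper9, in the elementwise form of helper338: an element of `C(z)` fixing `d₂` modulo
`O z` fixes `a` modulo `z`.
-/

set_option autoImplicit false

namespace Cfsg.Agent.Omega.FFTwoA.BOne

open Cfsg.Agent.Omega.FFTwoA.Main

variable {G : Type*} [Group G] {O : G → Subgroup G} {z a : G}

/-- equality modulo `z` -/
def R (z x y : G) : Prop := x = y ∨ x = z * y

theorem R.refl (z x : G) : R z x x := Or.inl rfl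

theorem R.symm (hzz : z * z = 1) {x y : G} (h : R z x y) : R z y x := by
  rcases h with rfl | rfl
  · exact Or.inl rfl
  · exact Or.inr (by rw [← mul_assoc, hzz, one_mul])

theorem R.trans (hzz : z * z = 1) {x y w : G} (h : R z x y) (h' : R z y w) : R z x w := by
  rcases h with rfl | rfl
  · exact h'
  · rcases h' with rfl | rfl
    · exact Or.inr rfl
    · exact Or.inl (by rw [← mul_assoc, hzz, one_mul])

theorem R.conj {x y g : G} (hg : g * z = z * g) (h : R z x y) : R z (g * x * g⁻¹) (g * y * g⁻¹) := by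
  rcases h with rfl | rfl
  · exact Or.inl rfl
  · right
    calc g * (z * y) * g⁻¹ = (g * z) * y * g⁻¹ := by group
      _ = z * (g * y * g⁻¹) := by rw [hg]; group

theorem R.mul (hzz : z * z = 1) {x y x' y' : G} (hy : y * z = z * y) (h : R z x y) (h' : R z x' y') :
    R z (x * x') (y * y') := by
  rcases h with rfl | rfl <;> rcases h' with rfl | rfl
  · exact Or.inl rfl
  · exact Or.inr (by rw [← mul_assoc, hy, mul_assoc])
  · exact Or.inr (by rw [mul_assoc])
  · left
    calc z * y * (z * y') = z * (y * z) * y' := by group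
      _ = (z * z) * y * y' := by rw [hy]; group
      _ = y * y' := by rw [hzz, one_mul]

theorem conj_comm {g x z : G} (hg : g * z = z * g) (hx : x * z = z * x) : (g * x * g⁻¹) * z = z * (g * x * g⁻¹) := by
  have hgi : g⁻¹ * z = z * g⁻¹ := by rw [inv_mul_eq_iff_eq_mul, ← mul_assoc, hg, mul_assoc, mul_inv_cancel, mul_one]
  calc g * x * g⁻¹ * z = g * x * (g⁻¹ * z) := by group
    _ = g * (x * z) * g⁻¹ := by rw [hgi]; group
    _ = (g * z) * x * g⁻¹ := by rw [hx]; group
    _ = z * (g * x * g⁻¹) := by rw [hg]; group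

/-- an element commuting with `u` and conjugates -/
theorem comm_inv {g x : G} (h : g * x = x * g) : g⁻¹ * x = x * g⁻¹ := by
  rw [inv_mul_eq_iff_eq_mul, ← mul_assoc, h, mul_assoc, mul_inv_cancel, mul_one]

theorem b_one (h : Cfg O z a) {d2 d3 w s u0 m : G}
    (hd2 : Dp O a d2) (hd2q : d2 * d2 = 1) (hd3 : Dp O (z * a) d3) (hd3q : d3 * d3 = 1)
    (hw : w ∈ O z) (hwa : w * a * w⁻¹ = z * a) (hwd : w * d2 * w⁻¹ = d3) (hwd' : w * d3 * w⁻¹ = d2)
    (hs : s = d2 * d3) (hsO : s ∈ O z) (hsa : s ∉ O a)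
    (f2 : ∀ x, Dp O a x → x = 1 ∨ x = a ∨ x = d2 ∨ x = a * d2)
    (f3 : ∀ x, Dp O (z * a) x → x = 1 ∨ x = z * a ∨ x = d3 ∨ x = z * a * d3)
    (hu : u0 ∈ O a) (huz : u0 * z = z * u0) (hud : u0 * d3 * u0⁻¹ = z * a * d3)
    (hb : ∀ g x, x * (g * d2 * g⁻¹) = g * d2 * g⁻¹ * x → x * (g * a * g⁻¹) = g * a * g⁻¹ * x)
    (hl : ∀ m, m * z = z * m → d2⁻¹ * (m * d2 * m⁻¹) ∈ O z →
      (R z (m * a * m⁻¹) 1 ∨ R z (m * a * m⁻¹) a ∨ R z (m * a * m⁻¹) s ∨ R z (m * a * m⁻¹) (a * s)) ∧
      (R z (m * s * m⁻¹) 1 ∨ R z (m * s * m⁻¹) a ∨ R z (m * s * m⁻¹) s ∨ R z (m * s * m⁻¹) (a * s)))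
    (hm : m * z = z * m) (hmd : d2⁻¹ * (m * d2 * m⁻¹) ∈ O z) : m * a * m⁻¹ = a ∨ m * a * m⁻¹ = z * a := by
  classical
  -- basic facts
  have hzz := h.zz
  have haa := h.aa
  have hza := h.za
  have haz : a * z = z * a := hza.symm
  have hzOa : z ∈ O a := h.symm.aO
  have haOa : a ∈ O a := h.symm.zO
  have haOz : a ∈ O z := h.aO
  have hd2i : d2⁻¹ = d2 := inv_eq_of_mul_eq_one_left hd2q
  have hd3i : d3⁻¹ = d3 := inv_eq_of_mul_eq_one_left hd3q
  have hai : a⁻¹ = a := inv_eq_of_mul_eq_one_left haa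
  have hzi : z⁻¹ = z := inv_eq_of_mul_eq_one_left hzz
  -- centres
  have c2 : ∀ x ∈ O a, d2 * x = x * d2 := (h.symm.dp_iff.1 hd2).2
  have c3 : ∀ x ∈ O (z * a), d3 * x = x * d3 := (h.third.dp_iff.1 hd3).2
  have hzO3 : z ∈ O (z * a) := h.third.aO
  have h3O3 : z * a ∈ O (z * a) := h.third.zO
  have haO3 : a ∈ O (z * a) := by
    have := mul_mem hzO3 h3O3
    rwa [← mul_assoc, hzz, one_mul] at this
  have d2a : d2 * a = a * d2 := c2 a haOa
  have d2z : d2 * z = z * d2 := c2 z hzOa
  have d3a : d3 * a = a * d3 := c3 a haO3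
  have d3z : d3 * z = z * d3 := c3 z hzO3
  have d23 : d2 * d3 = d3 * d2 := h.rot'.dd hd2 hd3
  have sz : s * z = z * s := by rw [hs, mul_assoc, d3z, ← mul_assoc, d2z, mul_assoc]
  have sa : s * a = a * s := by rw [hs, mul_assoc, d3a, ← mul_assoc, d2a, mul_assoc]
  have ss : s * s = 1 := by
    rw [hs]
    calc d2 * d3 * (d2 * d3) = d2 * (d3 * d2) * d3 := by group
      _ = (d2 * d2) * (d3 * d3) := by rw [← d23]; group
      _ = 1 := by rw [hd2q, hd3q, one_mul]
  have hwz : w * z = z * w := h.comm w hw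
  have ws : w * s * w⁻¹ = s := by
    have : w * s * w⁻¹ = (w * d2 * w⁻¹) * (w * d3 * w⁻¹) := by rw [hs]; group
    rw [this, hwd, hwd', ← d23, hs]
  have ua : u0 * a = a * u0 := h.symm.comm u0 hu
  have ud2 : u0 * d2 = d2 * u0 := (c2 u0 hu).symm
  have us : u0 * s * u0⁻¹ = z * a * s := by
    have : u0 * s * u0⁻¹ = (u0 * d2 * u0⁻¹) * (u0 * d3 * u0⁻¹) := by rw [hs]; group
    rw [this, hud, ud2, mul_inv_cancel_right, hs]
    calc d2 * (z * a * d3) = (d2 * z) * a * d3 := by group
      _ = z * (d2 * a) * d3 := by rw [d2z]; group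
      _ = z * a * (d2 * d3) := by rw [d2a]; group
  -- `s` is not in `O a`
  have s1 : s ≠ 1 := fun e => hsa (e ▸ one_mem _)
  have notOa : ∀ {x y : G}, R z x y → y ∉ O a → x ∉ O a := by
    rintro x y (rfl | rfl) hy hx
    · exact hy hx
    · exact hy ((Subgroup.mul_mem_cancel_left _ hzOa).1 hx)
  have as_not : a * s ∉ O a := fun hx => hsa ((Subgroup.mul_mem_cancel_left _ haOa).1 hx)
  -- conjugates in the normaliser of `O z`
  have nOz : ∀ {g x : G}, g * z = z * g → x ∈ O z → g * x * g⁻¹ ∈ O z := fun hg hx => h.eqv.mem_conj hx hg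
  have inv_z : ∀ {g : G}, g * z = z * g → g⁻¹ * z = z * g⁻¹ := fun hg => comm_inv hg
  -- (0) reduction to an element permuting `a, s, a s` cyclically
  by_contra hcon
  have mulN : ∀ {m n : G}, (m * z = z * m ∧ d2⁻¹ * (m * d2 * m⁻¹) ∈ O z) →
      (n * z = z * n ∧ d2⁻¹ * (n * d2 * n⁻¹) ∈ O z) →
      (m * n) * z = z * (m * n) ∧ d2⁻¹ * ((m * n) * d2 * (m * n)⁻¹) ∈ O z := by
    rintro m n ⟨h1, h2⟩ ⟨h3, h4⟩
    refine ⟨by rw [mul_assoc, h3, ← mul_assoc, h1, mul_assoc], ?_⟩
    have := mul_mem h2 (nOz h1 h4)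
    convert this using 1; group
  have uN : u0 * z = z * u0 ∧ d2⁻¹ * (u0 * d2 * u0⁻¹) ∈ O z :=
    ⟨huz, by rw [ud2, mul_inv_cancel_right, inv_mul_cancel]; exact one_mem _⟩
  have usR : R z (u0 * s * u0⁻¹) (a * s) := Or.inr (by rw [us]; group)
  have uaR : R z (u0 * a * u0⁻¹) a := Or.inl (by rw [ua, mul_inv_cancel_right])
  have asz : (a * s) * z = z * (a * s) := by rw [mul_assoc, sz, ← mul_assoc, haz, mul_assoc]
  have uasR : R z (u0 * (a * s) * u0⁻¹) s := by
    have h1 : R z ((u0 * a * u0⁻¹) * (u0 * s * u0⁻¹)) (a * (a * s)) := uaR.mul hzz haz usR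
    have h2 : (u0 * a * u0⁻¹) * (u0 * s * u0⁻¹) = u0 * (a * s) * u0⁻¹ := by group
    rw [h2, ← mul_assoc a a s, haa, one_mul] at h1
    exact h1
  obtain ⟨g, ⟨gz, gd⟩, ga, gs⟩ : ∃ g, (g * z = z * g ∧ d2⁻¹ * (g * d2 * g⁻¹) ∈ O z) ∧
      R z (g * a * g⁻¹) s ∧ R z (g * s * g⁻¹) (a * s) := by
    obtain ⟨hA, hS⟩ := hl m hm hmd
    have miz := inv_z hm
    -- `m` conjugates back
    have cancel1 : ∀ {x : G}, R z (m * x * m⁻¹) 1 → R z x 1 := by
      intro x hx
      have := hx.conj miz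
      have e1 : m⁻¹ * (m * x * m⁻¹) * m⁻¹⁻¹ = x := by group
      have e2 : m⁻¹ * 1 * m⁻¹⁻¹ = 1 := by group
      rwa [e1, e2] at this
    have hA' : R z (m * a * m⁻¹) s ∨ R z (m * a * m⁻¹) (a * s) := by
      rcases hA with k | k | k | k
      · rcases cancel1 k with e | e
        · exact absurd e h.a1
        · exact absurd (by rw [e, mul_one]) h.az
      · exact absurd k hcon
      · exact Or.inl k
      · exact Or.inr k
    have hS' : ¬ R z (m * s * m⁻¹) 1 := by
      intro k
      rcases cancel1 k with e | e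
      · exact s1 e
      · exact hsa (by rw [e, mul_one]; exact hzOa)
    -- `m s m⁻¹` and `m a m⁻¹` are different modulo `z`
    have hd : ¬ R z (m * s * m⁻¹) (m * a * m⁻¹) := by
      intro k
      have := k.conj miz
      have e1 : m⁻¹ * (m * s * m⁻¹) * m⁻¹⁻¹ = s := by group
      have e2 : m⁻¹ * (m * a * m⁻¹) * m⁻¹⁻¹ = a := by group
      rw [e1, e2] at this
      exact notOa (this.symm hzz) hsa haOa
    have mas : ∀ {x y : G}, x * z = z * x → R z (m * a * m⁻¹) x → R z (m * s * m⁻¹) y →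
        R z (m * (a * s) * m⁻¹) (x * y) := by
      intro x y hx h1 h2
      have := h1.mul hzz hx h2
      have e : m * a * m⁻¹ * (m * s * m⁻¹) = m * (a * s) * m⁻¹ := by group
      rwa [e] at this
    rcases hA' with hA | hA
    · rcases hS with k | k | k | k
      · exact absurd k hS'
      · -- `a → s`, `s → a`: take `m u0`
        refine ⟨m * u0, mulN ⟨hm, hmd⟩ uN, ?_, ?_⟩
        · have e : m * u0 * a * (m * u0)⁻¹ = m * (u0 * a * u0⁻¹) * m⁻¹ := by group
          rw [e]
          exact (uaR.conj hm).trans hzz hA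
        · have e : m * u0 * s * (m * u0)⁻¹ = m * (u0 * s * u0⁻¹) * m⁻¹ := by group
          rw [e]
          refine (usR.conj hm).trans hzz ?_
          have := mas sz hA k
          rwa [sa] at this
      · exact absurd (k.trans hzz (hA.symm hzz)) hd
      · exact ⟨m, ⟨hm, hmd⟩, hA, k⟩
    · rcases hS with k | k | k | k
      · exact absurd k hS'
      · -- `a → a s`, `s → a`: take `u0 m u0`
        refine ⟨u0 * m * u0, mulN (mulN uN ⟨hm, hmd⟩) uN, ?_, ?_⟩
        · have e : u0 * m * u0 * a * (u0 * m * u0)⁻¹ = u0 * (m * (u0 * a * u0⁻¹) * m⁻¹) * u0⁻¹ := by group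
          rw [e]
          exact (((uaR.conj hm).trans hzz hA).conj huz).trans hzz uasR
        · have e : u0 * m * u0 * s * (u0 * m * u0)⁻¹ = u0 * (m * (u0 * s * u0⁻¹) * m⁻¹) * u0⁻¹ := by group
          rw [e]
          have h1 := mas asz hA k
          have e2 : a * s * a = s := by rw [mul_assoc, sa, ← mul_assoc, haa, one_mul]
          rw [e2] at h1
          exact (((usR.conj hm).trans hzz h1).conj huz).trans hzz usR
      · -- `a → a s`, `s → s`: take `u0 m`
        refine ⟨u0 * m, mulN uN ⟨hm, hmd⟩, ?_, ?_⟩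
        · have e : u0 * m * a * (u0 * m)⁻¹ = u0 * (m * a * m⁻¹) * u0⁻¹ := by group
          rw [e]
          exact (hA.conj huz).trans hzz uasR
        · have e : u0 * m * s * (u0 * m)⁻¹ = u0 * (m * s * m⁻¹) * u0⁻¹ := by group
          rw [e]
          exact (k.conj huz).trans hzz usR
      · exact absurd (k.trans hzz (hA.symm hzz)) hd
  -- the conjugate `d' = g d₂ g⁻¹`
  have giz := inv_z gz
  obtain ⟨z', hz'⟩ : ∃ z', z' = g * a * g⁻¹ := ⟨_, rfl⟩
  obtain ⟨d', hd'⟩ : ∃ d', d' = g * d2 * g⁻¹ := ⟨_, rfl⟩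
  rw [← hz'] at ga
  rw [← hd'] at gd
  have dq' : d' * d' = 1 := by
    rw [hd']
    calc g * d2 * g⁻¹ * (g * d2 * g⁻¹) = g * (d2 * d2) * g⁻¹ := by group
      _ = 1 := by rw [hd2q]; group
  have di' : d'⁻¹ = d' := inv_eq_of_mul_eq_one_left dq'
  have Dd' : Dp O z' d' := by
    have := (h.eqv.dp_iff g a d2).2 hd2
    rwa [MulAut.conj_apply, MulAut.conj_apply, ← hz', ← hd'] at this
  have z'O : z' ∉ O a := notOa ga hsa
  -- exclusions
  have nda : d2 ≠ a := by
    intro e
    apply hsa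
    rw [hs, ← hwd, e, hwa, aza hza haa]
    exact hzOa
  have nDz2 : ¬ Dp O a z := h.symm.da
  have nDz3 : ¬ Dp O (z * a) z := h.third.da
  have nd2z : d2 ≠ z := fun e => nDz2 (e ▸ hd2)
  have nd31 : d3 ≠ 1 := by
    intro e
    have : d2 = 1 := by rw [← hwd', e]; group
    exact s1 (by rw [hs, e, this, one_mul])
  have nd21 : d2 ≠ 1 := by
    intro e
    exact nd31 (by rw [← hwd, e]; group)
  have nd3za : d3 ≠ z * a := by
    intro e
    apply nda
    rw [← hwd', e]
    calc w * (z * a) * w⁻¹ = (w * z) * a * w⁻¹ := by group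
      _ = z * (w * a * w⁻¹) := by rw [hwz]; group
      _ = a := by rw [hwa, ← mul_assoc, hzz, one_mul]
  have nd3z : d3 ≠ z := fun e => nDz3 (e ▸ hd3)
  -- (i) `d'` commutes with `d₂`
  have y2 : d2 * d' ∈ O z := by rwa [hd2i] at gd
  have d2d' : d' * d2 = d2 * d' := by
    rcases h.sq y2 with k | k
    · have e : d2 * (d2 * d' * (d2 * d')) * d' = d2 * d' := by rw [k, mul_one]
      have e2 : d2 * (d2 * d' * (d2 * d')) * d' = (d2 * d2) * d' * d2 * (d' * d') := by group
      rw [e2, hd2q, dq', one_mul, mul_one] at e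
      exact e
    · exfalso
      -- `y d₂ y⁻¹ = z d₂`
      have ey : d2 * d' * d2 * (d2 * d')⁻¹ = z * d2 := by
        rw [← k, mul_inv_rev, di', hd2i]
        calc d2 * d' * d2 * (d' * d2) = d2 * d' * (d2 * d') * d2 := by group
          _ = _ := rfl
      have key : ∀ b, MulAut.conj (d2 * d') a = b → Dp O b (z * d2) := by
        intro b hb'
        have := (h.eqv.dp_iff (d2 * d') a d2).2 hd2
        rwa [hb', MulAut.conj_apply, ey] at this
      rcases h.norm _ y2 with k2 | k2
      · have := dp_mul (key a k2) hd2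
        rw [mul_assoc, hd2q, mul_one] at this
        exact nDz2 this
      · rcases f3 _ (key _ k2) with e | e | e | e
        · apply nd2z
          have : d2 = z * (z * d2) := by rw [← mul_assoc, hzz, one_mul]
          rw [this, e, mul_one]
        · exact nda (mul_left_cancel e)
        · apply hsa
          have : s = z := by
            rw [hs, ← e, ← mul_assoc, d2z, mul_assoc, hd2q, mul_one]
          rw [this]; exact hzOa
        · apply hsa
          have : d2 = a * d3 := mul_left_cancel (by rw [e, mul_assoc])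
          have : s = a := by rw [hs, this, mul_assoc, hd3q, mul_one]
          rw [this]; exact haOa
  -- and with `d₃`
  have y3 : d3 * d' ∈ O z := by
    have e : d3 * d' = s * (d2 * d') := by
      rw [hs, d23]
      calc d3 * d' = d3 * 1 * d' := by group
        _ = d3 * (d2 * d2) * d' := by rw [hd2q]
        _ = d3 * d2 * (d2 * d') := by group
    rw [e]; exact mul_mem hsO y2
  have d3d' : d' * d3 = d3 * d' := by
    rcases h.sq y3 with k | k
    · have e : d3 * (d3 * d' * (d3 * d')) * d' = d3 * d' := by rw [k, mul_one]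
      have e2 : d3 * (d3 * d' * (d3 * d')) * d' = (d3 * d3) * d' * d3 * (d' * d') := by group
      rw [e2, hd3q, dq', one_mul, mul_one] at e
      exact e
    · exfalso
      have ey : d3 * d' * d3 * (d3 * d')⁻¹ = z * d3 := by
        rw [← k, mul_inv_rev, di', hd3i]
        calc d3 * d' * d3 * (d' * d3) = d3 * d' * (d3 * d') * d3 := by group
          _ = _ := rfl
      have key : ∀ b, MulAut.conj (d3 * d') (z * a) = b → Dp O b (z * d3) := by
        intro b hb'
        have := (h.eqv.dp_iff (d3 * d') (z * a) d3).2 hd3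
        rwa [hb', MulAut.conj_apply, ey] at this
      have yz : (d3 * d') * z = z * (d3 * d') := h.comm _ y3
      have cz : MulAut.conj (d3 * d') z = z := by
        rw [MulAut.conj_apply, yz, mul_assoc, mul_inv_cancel, mul_one]
      rcases h.norm _ y3 with k2 | k2
      · have := dp_mul (key (z * a) (by rw [map_mul, cz, MulAut.conj_apply, k2])) hd3
        rw [mul_assoc, hd3q, mul_one] at this
        exact nDz3 this
      · rcases f2 _ (key a (by rw [map_mul, cz, MulAut.conj_apply, k2, ← mul_assoc, hzz, one_mul])) with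
          e | e | e | e
        · apply nd3z
          have : d3 = z * (z * d3) := by rw [← mul_assoc, hzz, one_mul]
          rw [this, e, mul_one]
        · apply nd3za
          have : d3 = z * (z * d3) := by rw [← mul_assoc, hzz, one_mul]
          rw [this, e]
        · apply hsa
          have : s = z := by
            rw [hs, ← e, mul_assoc, hd3q, mul_one]
          rw [this]; exact hzOa
        · apply hsa
          have : s = z * a := by
            have e3 : d3 = z * (a * d2) := by rw [← e, ← mul_assoc, hzz, one_mul]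
            rw [hs, d23, e3, mul_assoc, mul_assoc, hd2q, mul_one]
          rw [this]; exact mul_mem hzOa haOa
  have ad' : d' * a = a * d' := by
    have := hb 1 d' (by simpa using d2d')
    simpa using this
  -- (ii)
  have stepII : ∀ u ∈ O a, u * z = z * u → u * d3 = d3 * u → u * d' = d' * u := by
    intro u huO hu1 hu2
    have u2 : u * d2 = d2 * u := (c2 u huO).symm
    have u3 : u * s = s * u := by rw [hs, ← mul_assoc, u2, mul_assoc, hu2, mul_assoc]
    have u4 : u * z' = z' * u := by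
      rcases ga with e | e
      · rw [e]; exact u3
      · rw [e, ← mul_assoc, hu1, mul_assoc, u3, mul_assoc]
    have D1 : Dp O z' (u * d' * u⁻¹) := h.eqv.dp_conj Dd' u4
    have D2 : Dp O a (g⁻¹ * (u * d' * u⁻¹) * g) := by
      have := (h.eqv.dp_iff g⁻¹ z' _).2 D1
      have e1 : MulAut.conj g⁻¹ z' = a := by rw [MulAut.conj_apply, hz']; group
      rw [e1, MulAut.conj_apply, inv_inv] at this
      exact this
    have e0 : u * d' * u⁻¹ = g * (g⁻¹ * (u * d' * u⁻¹) * g) * g⁻¹ := by group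
    have hmem : u * d' * u⁻¹ * d'⁻¹ ∈ O a := by
      have := mul_mem huO (h.symm.eqv.mem_conj (inv_mem huO) ad')
      convert this using 1; group
    rcases f2 _ D2 with e | e | e | e
    · exfalso
      rw [e] at e0
      have : d2 = 1 := by
        have h1 : u * d' * u⁻¹ = 1 := by rw [e0]; group
        have h2 : d' = 1 := by
          have : d' = u⁻¹ * (u * d' * u⁻¹) * u := by group
          rw [this, h1]; group
        have : d2 = g⁻¹ * d' * g := by rw [hd']; group
        rw [this, h2]; group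
      exact nd21 this
    · exfalso
      rw [e, ← hz'] at e0
      apply nda
      have h2 : d' = z' := by
        have : d' = u⁻¹ * (u * d' * u⁻¹) * u := by group
        rw [this, e0, mul_assoc, ← u4]; group
      have : d2 = g⁻¹ * d' * g := by rw [hd']; group
      rw [this, h2, hz']; group
    · rw [e, ← hd', mul_inv_eq_iff_eq_mul] at e0
      exact e0
    · exfalso
      rw [e] at e0
      have e1 : u * d' * u⁻¹ = z' * d' := by
        rw [e0, hz', hd']; group
      rw [e1, mul_inv_cancel_right] at hmem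
      exact z'O hmem
  -- (iii)
  obtain ⟨c0, hc0⟩ : ∃ c0, c0 = d' * (u0 * d' * u0⁻¹) := ⟨_, rfl⟩
  have c0z : c0 ∈ O z := by
    have h1 := mul_mem (nOz d2z y2) (nOz huz y2)
    convert h1 using 1
    rw [hc0, hd2i]
    have e1 : u0 * (d2 * d') * u0⁻¹ = d2 * (u0 * d' * u0⁻¹) := by
      calc u0 * (d2 * d') * u0⁻¹ = (u0 * d2) * d' * u0⁻¹ := by group
        _ = _ := by rw [ud2]; group
    rw [e1]
    calc d' * (u0 * d' * u0⁻¹) = 1 * d' * 1 * (u0 * d' * u0⁻¹) := by group
      _ = (d2 * d2) * d' * (d2 * d2) * (u0 * d' * u0⁻¹) := by rw [hd2q]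
      _ = _ := by group
  have c0a : c0 ∈ O a := by
    have := mul_mem (h.symm.eqv.mem_conj hu ad') (inv_mem hu)
    convert this using 1
    rw [hc0, di']; group
  have c0q : c0 * c0 = 1 := by
    rcases h.sq c0z with k | k
    · exact k
    · rcases h.symm.sq c0a with k2 | k2
      · exact k2
      · exact absurd (k2.symm.trans k) h.az
  have c0i : c0⁻¹ = c0 := inv_eq_of_mul_eq_one_left c0q
  have u0c : u0 * c0 = c0 * u0 := by
    have e1 : (u0 * u0) * d' * (u0 * u0)⁻¹ = d' := by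
      rcases h.symm.sq hu with k | k
      · rw [k]; group
      · rw [k, ← ad', mul_inv_cancel_right]
    have e2 : u0 * c0 * u0⁻¹ = c0⁻¹ := by
      calc u0 * c0 * u0⁻¹ = (u0 * d' * u0⁻¹) * ((u0 * u0) * d' * (u0 * u0)⁻¹) := by rw [hc0]; group
        _ = (u0 * d' * u0⁻¹) * d' := by rw [e1]
        _ = (u0 * d'⁻¹ * u0⁻¹) * d'⁻¹ := by rw [di']
        _ = c0⁻¹ := by rw [hc0]; group
    rw [c0i, mul_inv_eq_iff_eq_mul] at e2
    exact e2
  have cu1 : ∀ u ∈ O a, u * z = z * u → u * d3 = d3 * u → u * c0 = c0 * u := by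
    intro u huO hu1 hu2
    have k1 := stepII u huO hu1 hu2
    have k2 : (u0⁻¹ * u * u0) * d' = d' * (u0⁻¹ * u * u0) := by
      have e : u0⁻¹ * u * u0 = u ∨ u0⁻¹ * u * u0 = a * u := by
        have := h.symm.comm_mem (inv_mem hu) huO
        rw [inv_inv] at this
        rcases this with k | k
        · left; rw [mul_inv_eq_one] at k; exact k
        · right; rw [mul_inv_eq_iff_eq_mul] at k; exact k
      rcases e with e | e
      · rw [e]; exact k1
      · rw [e, mul_assoc, k1, ← mul_assoc, ← ad', mul_assoc]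
    have k3 : u * (u0 * d' * u0⁻¹) = (u0 * d' * u0⁻¹) * u := by
      calc u * (u0 * d' * u0⁻¹) = u0 * ((u0⁻¹ * u * u0) * d') * u0⁻¹ := by group
        _ = u0 * (d' * (u0⁻¹ * u * u0)) * u0⁻¹ := by rw [k2]
        _ = _ := by group
    calc u * c0 = (u * d') * (u0 * d' * u0⁻¹) := by rw [hc0]; group
      _ = d' * (u * (u0 * d' * u0⁻¹)) := by rw [k1]; group
      _ = c0 * u := by rw [k3, hc0]; group
  have cu2 : ∀ u ∈ O a, u * z = z * u → u * c0 = c0 * u := by
    intro u huO hu1
    have hu3 : u * (z * a) = (z * a) * u := by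
      rw [← mul_assoc, hu1, mul_assoc, h.symm.comm u huO, mul_assoc]
    have D3 : Dp O (z * a) (u * d3 * u⁻¹) := h.eqv.dp_conj hd3 hu3
    rcases f3 _ D3 with e | e | e | e
    · exfalso
      apply nd31
      have : d3 = u⁻¹ * (u * d3 * u⁻¹) * u := by group
      rw [this, e]; group
    · exfalso
      apply nd3za
      have : d3 = u⁻¹ * (u * d3 * u⁻¹) * u := by group
      rw [this, e, mul_assoc, ← hu3]; group
    · rw [mul_inv_eq_iff_eq_mul] at e
      exact cu1 u huO hu1 e
    · have huu : u0⁻¹ * u ∈ O a := mul_mem (inv_mem hu) huO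
      have h1 : (u0⁻¹ * u) * z = z * (u0⁻¹ * u) := by
        rw [mul_assoc, hu1, ← mul_assoc, inv_z huz, mul_assoc]
      have h2 : (u0⁻¹ * u) * d3 = d3 * (u0⁻¹ * u) := by
        rw [mul_inv_eq_iff_eq_mul] at e
        rw [mul_assoc, e, ← hud]; group
      have h3 := cu1 _ huu h1 h2
      have : u = u0 * (u0⁻¹ * u) := by group
      rw [this, mul_assoc, h3, ← mul_assoc, u0c, mul_assoc]
  have c0R : R z c0 1 ∨ R z c0 a := by
    obtain ⟨wa, hwa1, hwa2⟩ := h.symm.mov
    have hwa2' : wa * z = a * z * wa := by rwa [mul_inv_eq_iff_eq_mul] at hwa2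
    -- an element commuting with `wa` and with `C_{O a}(z)`
    have central : ∀ x ∈ O a, wa * x = x * wa → (∀ u ∈ O a, u * z = z * u → u * x = x * u) → Dp O a x := by
      intro x hx h1 h2
      rw [h.symm.dp_iff]
      refine ⟨hx, fun q hq => ?_⟩
      rcases h.symm.norm q hq with k | k
      · rw [mul_inv_eq_iff_eq_mul] at k
        exact (h2 q hq k).symm
      · rw [mul_inv_eq_iff_eq_mul] at k
        have h3 : (wa⁻¹ * q) * z = z * (wa⁻¹ * q) := by
          have e3 : wa⁻¹ * (a * z) = z * wa⁻¹ := by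
            rw [inv_mul_eq_iff_eq_mul, ← mul_assoc, hwa2', mul_assoc, mul_inv_cancel, mul_one]
          rw [mul_assoc, k, ← mul_assoc, e3, mul_assoc]
        have h4 := h2 _ (mul_mem (inv_mem hwa1.1) hq) h3
        calc x * q = (x * wa) * (wa⁻¹ * q) := by group
          _ = wa * (x * (wa⁻¹ * q)) := by rw [← h1]; group
          _ = wa * ((wa⁻¹ * q) * x) := by rw [h4]
          _ = q * x := by group
    rcases h.symm.comm_mem hwa1.1 c0a with k | k
    · have e : wa * c0 = c0 * wa := by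
        rw [mul_inv_eq_one, mul_inv_eq_iff_eq_mul] at k; exact k
      rcases h.symm.d_inter (central c0 c0a e cu2) c0z with e | e
      · exact Or.inl (Or.inl e)
      · exact Or.inr (Or.inl e)
    · have e : wa * c0 = a * c0 * wa := by
        rw [mul_inv_eq_iff_eq_mul, mul_inv_eq_iff_eq_mul] at k; exact k
      have c0a' : c0 * a = a * c0 := h.symm.comm c0 c0a
      have c0z' : c0 * z = z * c0 := h.comm c0 c0z
      have e2 : wa * (z * c0) = (z * c0) * wa := by
        calc wa * (z * c0) = (wa * z) * c0 := by group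
          _ = a * z * (wa * c0) := by rw [hwa2']; group
          _ = (a * z) * a * c0 * wa := by rw [e]; group
          _ = (a * (z * a)) * c0 * wa := by group
          _ = (z * c0) * wa := by rw [aza hza haa]
      have D4 : Dp O a (z * c0) := central (z * c0) (mul_mem hzOa c0a) e2 (by
        intro u huO hu1
        rw [← mul_assoc, hu1, mul_assoc, cu2 u huO hu1, mul_assoc])
      rcases h.symm.d_inter D4 (mul_mem h.zO c0z) with e | e
      · left; right
        have : c0 = z * (z * c0) := by rw [← mul_assoc, hzz, one_mul]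
        rw [this, e]
      · right; right
        have : c0 = z * (z * c0) := by rw [← mul_assoc, hzz, one_mul]
        rw [this, e]
  -- (iv)
  obtain ⟨g1, hg1⟩ : ∃ g1, g1 = g⁻¹ * u0 * g := ⟨_, rfl⟩
  obtain ⟨d1, hd1⟩ : ∃ d1, d1 = g1 * d2 * g1⁻¹ := ⟨_, rfl⟩
  have g1a : R z (g1 * a * g1⁻¹) s := by
    have h1 : R z (u0 * z' * u0⁻¹) (a * s) := (ga.conj huz).trans hzz usR
    have h2 := (h1.trans hzz (gs.symm hzz)).conj giz
    have e1 : g⁻¹ * (u0 * z' * u0⁻¹) * g⁻¹⁻¹ = g1 * a * g1⁻¹ := by rw [hg1, hz']; group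
    have e2 : g⁻¹ * (g * s * g⁻¹) * g⁻¹⁻¹ = s := by group
    rwa [e1, e2] at h2
  have d2d1 : d2 * d1 = g⁻¹ * c0 * g := by
    rw [hd1, hc0, hg1, hd']; group
  have hd1' : d1 = d2 * (g⁻¹ * c0 * g) := by rw [← d2d1, ← mul_assoc, hd2q, one_mul]
  have gai : R z (g⁻¹ * a * g) (a * s) := by
    -- `g (a s) g⁻¹ ≡ s (a s) = a`
    have h1 := ga.mul hzz sz gs
    rw [hz'] at h1
    have e1 : g * a * g⁻¹ * (g * s * g⁻¹) = g * (a * s) * g⁻¹ := by group
    have e2 : s * (a * s) = a := by rw [← mul_assoc, sa, mul_assoc, ss, mul_one]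
    rw [e1, e2] at h1
    have h2 := (h1.symm hzz).conj giz
    have e3 : g⁻¹ * (g * (a * s) * g⁻¹) * g⁻¹⁻¹ = a * s := by group
    rwa [e3, inv_inv] at h2
  -- `u0` does not commute with `s`
  have nus : ∀ x, R z x s → u0 * x ≠ x * u0 := by
    intro x hx hux
    have h1 : u0 * s = s * u0 := by
      rcases hx with e | e
      · rw [← e]; exact hux
      · have : s = z * x := by rw [e, ← mul_assoc, hzz, one_mul]
        rw [this, ← mul_assoc, huz, mul_assoc, hux, mul_assoc]
    rw [h1, mul_inv_cancel_right] at us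
    have h2 : z * a = 1 := by
      have : 1 * s = z * a * s := by rw [one_mul]; exact us
      exact (mul_right_cancel this).symm
    apply h.az
    have : a = z * (z * a) := by rw [← mul_assoc, hzz, one_mul]
    rw [this, h2, mul_one]
  rcases c0R with k | k
  · -- `d₁ ∈ d₂ ⟨z⟩`
    have k1 : R z (g⁻¹ * c0 * g) 1 := by
      have := k.conj giz
      have e : g⁻¹ * 1 * g⁻¹⁻¹ = 1 := by group
      rwa [e, inv_inv] at this
    have hc : u0 * d1 = d1 * u0 := by
      rw [hd1']
      rcases k1 with e | e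
      · rw [e, mul_one]; exact ud2
      · rw [e, mul_one, ← mul_assoc, ud2, mul_assoc, huz, mul_assoc]
    exact nus _ g1a (hb g1 u0 (by rw [← hd1]; exact hc))
  · -- `w d₁ w⁻¹ ∈ a d₂ ⟨z⟩`
    have k1 : R z (g⁻¹ * c0 * g) (a * s) := by
      have := k.conj giz
      rw [inv_inv] at this
      exact this.trans hzz gai
    have k2 : R z d1 (a * d3) := by
      have h1 := (R.refl z d2).mul hzz d2z k1
      rw [← hd1'] at h1
      have e : d2 * (a * s) = a * d3 := by
        rw [hs]
        calc d2 * (a * (d2 * d3)) = (d2 * a) * d2 * d3 := by group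
          _ = a * (d2 * d2) * d3 := by rw [d2a]; group
          _ = a * d3 := by rw [hd2q, mul_one]
      rwa [e] at h1
    have k3 : R z (w * d1 * w⁻¹) (a * d2) := by
      have h1 := k2.conj hwz
      have e : w * (a * d3) * w⁻¹ = z * (a * d2) := by
        calc w * (a * d3) * w⁻¹ = (w * a * w⁻¹) * (w * d3 * w⁻¹) := by group
          _ = z * (a * d2) := by rw [hwa, hwd', mul_assoc]
      rw [e] at h1
      exact h1.trans hzz (Or.inr rfl)
    have hc : u0 * (w * d1 * w⁻¹) = (w * d1 * w⁻¹) * u0 := by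
      have hc1 : u0 * (a * d2) = (a * d2) * u0 := by
        rw [← mul_assoc, ua, mul_assoc, ud2, mul_assoc]
      rcases k3 with e | e
      · rw [e]; exact hc1
      · rw [e]
        calc u0 * (z * (a * d2)) = (u0 * z) * (a * d2) := by group
          _ = z * (u0 * (a * d2)) := by rw [huz]; group
          _ = z * (a * d2) * u0 := by rw [hc1]; group
    have k4 : R z ((w * g1) * a * (w * g1)⁻¹) s := by
      have h1 := g1a.conj hwz
      rw [ws] at h1
      have e : w * (g1 * a * g1⁻¹) * w⁻¹ = (w * g1) * a * (w * g1)⁻¹ := by group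
      rwa [e] at h1
    refine nus _ k4 (hb (w * g1) u0 ?_)
    have e : (w * g1) * d2 * (w * g1)⁻¹ = w * d1 * w⁻¹ := by rw [hd1]; group
    rw [e]; exact hc

end Cfsg.Agent.Omega.FFTwoA.BOne

end

-- merged: Cfsg.Agent.Mrg.Omega.FFTwoA.Cases
section

section


/-!
# FF-2a (7): the two cases `C(d) ≤ C(z)` and `C(d) ≰ C(z)`, abstract form
-/

set_option autoImplicit false

namespace Cfsg.Agent.Omega.FFTwoA.Cases

open Cfsg.Agent.Omega.FFTwoA.Main Cfsg.Agent.Omega.FFTwoA.Four Cfsg.Agent.Omega.FFTwoA.Line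
open Cfsg.Agent.Omega.FFTwoA.BTwo Cfsg.Agent.Omega.FFTwoA.Glue

universe u

variable {G : Type u} [Group G] {O : G → Subgroup G} {z a d : G}

theorem lin_conj (h : Lin O z a d) {m : G} (hm : m * z = z * m) : Lin O z (m * a * m⁻¹) d := by
  have h1 := h.conj m
  have e1 : MulAut.conj m z = z := by
    rw [MulAut.conj_apply, hm, mul_assoc, mul_inv_cancel, mul_one]
  rw [e1] at h1
  exact h1.change h.dD h.d1 h.dz

/-- the non-orthogonality hypothesis passes to conjugates -/
theorem hna_conj {m : G} (hm : m * z = z * m)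
    (hna : ∃ m, m * z = z * m ∧ ¬ m * a * m⁻¹ * a = a * (m * a * m⁻¹)) :
    ¬ ∀ k, k * z = z * k → k * (m * a * m⁻¹) * k⁻¹ * (m * a * m⁻¹) =
      m * a * m⁻¹ * (k * (m * a * m⁻¹) * k⁻¹) := by
  intro hcon
  obtain ⟨n, hn, hnn⟩ := hna
  apply hnn
  have hmi : m⁻¹ * z = z * m⁻¹ := by
    rw [inv_mul_eq_iff_eq_mul, ← mul_assoc, hm, mul_assoc, mul_inv_cancel, mul_one]
  have hk : m * n * m⁻¹ * z = z * (m * n * m⁻¹) := by
    calc m * n * m⁻¹ * z = m * n * (m⁻¹ * z) := by group
      _ = m * (n * z) * m⁻¹ := by rw [hmi]; group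
      _ = m * z * n * m⁻¹ := by rw [hn]; group
      _ = z * (m * n * m⁻¹) := by rw [hm]; group
  have := hcon _ hk
  have e1 : m * n * m⁻¹ * (m * a * m⁻¹) * (m * n * m⁻¹)⁻¹ * (m * a * m⁻¹) =
      m * (n * a * n⁻¹ * a) * m⁻¹ := by group
  have e2 : m * a * m⁻¹ * (m * n * m⁻¹ * (m * a * m⁻¹) * (m * n * m⁻¹)⁻¹) =
      m * (a * (n * a * n⁻¹)) * m⁻¹ := by group
  rw [e1, e2] at this
  exact mul_left_cancel (mul_right_cancel this)

/-- every non-central element of `D_a` is conjugate to `d` by an element carrying `z` to `a` -/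
theorem conj_d (h : Lin O z a d) {e : G} (he : Dp O a e) (h1 : e ≠ 1) (h2 : e ≠ a) :
    ∃ n, n * z * n⁻¹ = a ∧ n * d * n⁻¹ = e := by
  obtain ⟨n, hn, hn2⟩ := h.rot
  have hl := h.symm he h1 h2
  have hD : Dp O a (n * d * n⁻¹) := by
    have := (h.eqv.dp_iff n z d).2 h.dD
    rwa [MulAut.conj_apply, MulAut.conj_apply, hn] at this
  obtain ⟨u, hu, huz, hud⟩ := h.exd
  have huz' : u * z * u⁻¹ = z := by rw [huz]; group
  have hud' : u * d * u⁻¹ = z * d := by rw [hud]; group
  rcases hl.four _ hD with k | k | k | k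
  · exfalso
    apply h.d1
    have : n * d * n⁻¹ = n * 1 * n⁻¹ := by rw [k]; group
    exact mul_left_cancel (mul_right_cancel this)
  · exfalso
    apply h.dz
    rw [← hn] at k
    exact mul_left_cancel (mul_right_cancel k)
  · exact ⟨n, hn, k⟩
  · refine ⟨n * u, ?_, ?_⟩
    · calc n * u * z * (n * u)⁻¹ = n * (u * z * u⁻¹) * n⁻¹ := by group
        _ = a := by rw [huz', hn]
    · calc n * u * d * (n * u)⁻¹ = n * (u * d * u⁻¹) * n⁻¹ := by group
        _ = (n * z * n⁻¹) * (n * d * n⁻¹) := by rw [hud']; group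
        _ = e := by rw [hn, k, ← mul_assoc, h.aa, one_mul]

/-- **(b1)** -/
theorem b_one_false [Finite G] (h : Lin O z a d)
    (hna : ∃ m, m * z = z * m ∧ ¬ m * a * m⁻¹ * a = a * (m * a * m⁻¹))
    (hb : ∀ x, x * d = d * x → x * z = z * x) : False := by
  obtain ⟨w, hw, hwa, _, _⟩ := h.w0
  have hwa' : ¬ w * a = a * w := by
    intro k
    rw [MulAut.conj_apply, k, mul_assoc, mul_inv_cancel, mul_one] at hwa
    exact h.z1 (by simpa using hwa.symm)
  obtain ⟨e, he, h1, h2⟩ := h.exD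
  have hd := h.exDat hw.1 hwa' he h1 h2
  set d3 := w * e * w⁻¹ with hd3
  set s := e * d3 with hs
  obtain ⟨n, hn, hnd⟩ := conj_d h he h1 h2
  obtain ⟨u, hu, huz, hu3, hus⟩ := hd.exu0
  have rcv : ∀ x, LH z a s x →
      (BOne.R z x 1 ∨ BOne.R z x a ∨ BOne.R z x s ∨ BOne.R z x (a * s)) := by
    intro x hx
    unfold BOne.R
    rcases hx with (k | k | k | k) | (k | k | k | k)
    · left; left; exact k
    · left; right; rw [mul_one]; exact k
    · right; left; left; exact k
    · right; left; right; exact k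
    · right; right; left; left; exact k
    · right; right; left; right; exact k
    · right; right; right; left; exact k
    · right; right; right; right; rw [← mul_assoc]; exact k
  have ef : ∀ m, NS O z e m → m * a * m⁻¹ = a ∨ m * a * m⁻¹ = z * a := by
    intro m hm
    refine BOne.b_one h.toCfg (d2 := e) (d3 := d3) (w := w) (s := s) (u0 := u) he hd.d2q hd.dp3
      hd.d3q hw.1 hwa rfl ?_ rfl hd.sO hd.snO hd.f2 hd.f3 hu huz ?_ ?_ ?_ hm.1 hm.2
    · rw [hd.wd3]; group
    · rw [hu3]; group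
    · intro g x hx
      have hx' : (n⁻¹ * g⁻¹ * x * g * n) * d = d * (n⁻¹ * g⁻¹ * x * g * n) := by
        rw [← hnd] at hx
        calc (n⁻¹ * g⁻¹ * x * g * n) * d
            = n⁻¹ * g⁻¹ * (x * (g * (n * d * n⁻¹) * g⁻¹)) * g * n := by group
          _ = d * (n⁻¹ * g⁻¹ * x * g * n) := by rw [hx]; group
      have hz' := hb _ hx'
      rw [← hn]
      calc x * (g * (n * z * n⁻¹) * g⁻¹)
          = g * n * ((n⁻¹ * g⁻¹ * x * g * n) * z) * n⁻¹ * g⁻¹ := by group
        _ = g * (n * z * n⁻¹) * g⁻¹ * x := by rw [hz']; group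
    · intro k hk hk2
      have := hl hd ⟨hk, hk2⟩
      exact ⟨rcv _ this.1, rcv _ this.2⟩
  obtain ⟨m, hm, hmn⟩ := hna
  exact hmn (orth hd ef m hm)

/-- **(b2)** -/
theorem b_two_comm [Finite G] (h : Lin O z a d)
    (hna : ∃ m, m * z = z * m ∧ ¬ m * a * m⁻¹ * a = a * (m * a * m⁻¹))
    (VC : Subgroup G) (hVab : ∀ x ∈ VC, ∀ y ∈ VC, x * y = y * x)
    (hVn : ∀ c, c * d = d * c → ∀ x ∈ VC, c * x * c⁻¹ ∈ VC) (hVz : z ∈ VC) (hVO : VC ≤ O z)
    {v : G} (hv : v ∈ VC) {m : G} (hm : m * z = z * m) :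
    v * (m * a * m⁻¹) = m * a * m⁻¹ * v := by
  by_contra hcon
  have h' := lin_conj h hm
  obtain ⟨e, he, h1, h2⟩ := h'.exD
  have hd := h'.exDat (hVO hv) hcon he h1 h2
  exact hna_conj hm hna (orth hd fun k hk => ef_two hd VC hVab hVn hVz hv hk)

end Cfsg.Agent.Omega.FFTwoA.Cases

end

section


/-!
# FF-2a: facts on `O v = O₂(C_G(v))`
-/

set_option autoImplicit false

namespace Cfsg.Agent.Omega.FFTwoA.OTwo

open Subgroup Cfsg.Agent.ZN Cfsg.Agent.ZN.Block
open Cfsg.Agent.Omega.FFTwoA.Main Cfsg.Agent.Omega.FFTwoA.Four Cfsg.Agent.Omega.FFTwoA.Line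

universe u

variable {G : Type u} [Group G] {z a d : G}

/-- `O v = O₂(C_G(v))`. -/
def OO (v : G) : Subgroup G := o2 (centralizer ({v} : Set G))

/-- `O₂(C(v))` contains its centraliser in `C(v)`, for all involutions `v` -/
def Ch (G : Type u) [Group G] : Prop :=
  ∀ v : G, v * v = 1 → v ≠ 1 → ∀ x, x * v = v * x → (∀ q ∈ OO v, x * q = q * x) → x ∈ OO v

theorem mem_c {v x : G} : x ∈ centralizer ({v} : Set G) ↔ x * v = v * x :=
  mem_centralizer_singleton_iff

theorem inv_comm {v g : G} (hg : g * v = v * g) : g⁻¹ * v = v * g⁻¹ := by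
  rw [inv_mul_eq_iff_eq_mul, ← mul_assoc, hg, mul_assoc, mul_inv_cancel, mul_one]

theorem mul_comm' {v g g' : G} (hg : g * v = v * g) (hg' : g' * v = v * g') :
    g * g' * v = v * (g * g') := by
  rw [mul_assoc, hg', ← mul_assoc, hg, mul_assoc]

/-- normal 2-subgroups of `C(v)` lie in `OO v` -/
theorem le_oo {v : G} {K : Subgroup G} (hK : IsPGroup 2 K) (hKL : ∀ x ∈ K, x * v = v * x)
    (hn : ∀ g, g * v = v * g → ∀ x ∈ K, g * x * g⁻¹ ∈ K) : K ≤ OO v := by
  refine Block.le_o2 hK (fun x hx => mem_c.2 (hKL x hx)) ?_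
  exact le_normalizer_of_forall fun l hl m hm => hn l (mem_c.1 hl) m hm

theorem isP (v : G) : IsPGroup 2 (OO v) := Block.o2_isPGroup _

theorem oo_comm {v x : G} (hx : x ∈ OO v) : x * v = v * x := mem_c.1 (Block.o2_le _ hx)

theorem oo_conj {v g x : G} (hg : g * v = v * g) (hx : x ∈ OO v) : g * x * g⁻¹ ∈ OO v :=
  Block.o2_conj (mem_c.2 hg) hx

/-- a normal subset of `C(v)` closed under products whose elements have 2-power order -/
theorem mem_of_set {v : G} {K : Set G} (h1 : (1 : G) ∈ K) (hm : ∀ x ∈ K, ∀ y ∈ K, x * y ∈ K)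
    (hi : ∀ x ∈ K, x⁻¹ ∈ K) (hp : ∀ x ∈ K, ∃ k : ℕ, x ^ 2 ^ k = 1)
    (hc : ∀ x ∈ K, x * v = v * x) (hn : ∀ g, g * v = v * g → ∀ x ∈ K, g * x * g⁻¹ ∈ K)
    {x : G} (hx : x ∈ K) : x ∈ OO v := by
  let L : Subgroup G :=
    { carrier := K, mul_mem' := fun {x y} hx hy => hm x hx y hy, one_mem' := h1,
      inv_mem' := fun {x} hx => hi x hx }
  refine le_oo (K := L) ?_ hc hn hx
  rintro ⟨y, hy⟩
  obtain ⟨k, hk⟩ := hp y hy
  exact ⟨k, Subtype.ext hk⟩

theorem pow_of_mem {v x : G} (hx : x ∈ OO v) : ∃ k : ℕ, x ^ 2 ^ k = 1 := by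
  obtain ⟨k, hk⟩ := isP v ⟨x, hx⟩
  exact ⟨k, congrArg Subtype.val hk⟩

theorem self_mem {v : G} (hv : v * v = 1) : v ∈ OO v := by
  refine mem_of_set (K := {x | x = 1 ∨ x = v}) (Or.inl rfl) ?_ ?_ ?_ ?_ ?_ (Or.inr rfl)
  · rintro x (rfl | rfl) y (rfl | rfl)
    · left; simp
    · right; simp
    · right; simp
    · left; exact hv
  · rintro x (rfl | rfl)
    · left; simp
    · right; exact inv_eq_of_mul_eq_one_left hv
  · rintro x (rfl | rfl)
    · exact ⟨0, by simp⟩
    · exact ⟨1, by rw [pow_one, pow_two]; exact hv⟩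
  · rintro x (rfl | rfl)
    · simp
    · rfl
  · rintro g hg x (rfl | rfl)
    · left; group
    · right; rw [hg]; group

/-- `hC` -/
theorem hC (h : Cfg OO z a) (hch : Ch G) :
    ∀ s, s * z = z * s → (∀ q ∈ OO z, q * s * q⁻¹ * s⁻¹ = 1 ∨ q * s * q⁻¹ * s⁻¹ = z) →
      s ∈ OO z := by
  intro s hs hq
  have hzz := h.zz
  -- `q s = s q` or `q s = z s q`
  have eqv : ∀ s q : G, (q * s * q⁻¹ * s⁻¹ = 1 ∨ q * s * q⁻¹ * s⁻¹ = z) ↔
      (q * s = s * q ∨ q * s = z * s * q) := by
    intro s q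
    rw [mul_inv_eq_iff_eq_mul, mul_inv_eq_iff_eq_mul, mul_inv_eq_iff_eq_mul,
      mul_inv_eq_iff_eq_mul, one_mul]
  refine mem_of_set (K := {s | s * z = z * s ∧ ∀ q ∈ OO z, q * s = s * q ∨ q * s = z * s * q})
    ?_ ?_ ?_ ?_ ?_ ?_ ?_
  · exact ⟨by simp, fun q _ => Or.inl (by simp)⟩
  · rintro x ⟨hx1, hx2⟩ y ⟨hy1, hy2⟩
    refine ⟨mul_comm' hx1 hy1, fun q hq => ?_⟩
    have hqz := h.comm q hq
    rcases hx2 q hq with k | k <;> rcases hy2 q hq with k' | k'
    · left; rw [← mul_assoc, k, mul_assoc, k', mul_assoc]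
    · right
      calc q * (x * y) = x * (q * y) := by rw [← mul_assoc, k, mul_assoc]
        _ = x * z * y * q := by rw [k']; group
        _ = z * (x * y) * q := by rw [hx1]; group
    · right
      calc q * (x * y) = z * x * (q * y) := by rw [← mul_assoc, k, mul_assoc]
        _ = z * (x * y) * q := by rw [k']; group
    · left
      calc q * (x * y) = z * x * (q * y) := by rw [← mul_assoc, k, mul_assoc]
        _ = z * (x * z) * y * q := by rw [k']; group
        _ = z * z * (x * y) * q := by rw [hx1]; group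
        _ = x * y * q := by rw [hzz, one_mul]
  · rintro x ⟨hx1, hx2⟩
    have hxi := inv_comm hx1
    refine ⟨hxi, fun q hq => ?_⟩
    rcases hx2 q hq with k | k
    · left
      rw [eq_inv_mul_iff_mul_eq, ← mul_assoc, ← k, mul_assoc, mul_inv_cancel, mul_one]
    · right
      have : x * q = z * q * x := by
        calc x * q = z * z * (x * q) := by rw [hzz, one_mul]
          _ = z * (z * x * q) := by group
          _ = z * q * x := by rw [← k]; group
      calc q * x⁻¹ = x⁻¹ * (x * q) * x⁻¹ := by group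
        _ = x⁻¹ * z * q := by rw [this]; group
        _ = z * x⁻¹ * q := by rw [hxi]
  · rintro x ⟨hx1, hx2⟩
    have hxx : x * x ∈ OO z := by
      refine hch z hzz h.z1 (x * x) (mul_comm' hx1 hx1) fun q hq => ?_
      rcases hx2 q hq with k | k
      · rw [mul_assoc, ← k, ← mul_assoc, ← k, mul_assoc]
      · symm
        calc q * (x * x) = q * x * x := by group
          _ = z * x * q * x := by rw [k]
          _ = z * x * (q * x) := by group
          _ = z * (x * z) * x * q := by rw [k]; group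
          _ = z * z * (x * x) * q := by rw [hx1]; group
          _ = x * x * q := by rw [hzz, one_mul]
    obtain ⟨k, hk⟩ := pow_of_mem hxx
    refine ⟨k + 1, ?_⟩
    rw [pow_succ', pow_mul, pow_two]; exact hk
  · rintro x ⟨hx1, _⟩; exact hx1
  · rintro g hg x ⟨hx1, hx2⟩
    refine ⟨mul_comm' (mul_comm' hg hx1) (inv_comm hg), fun q hq => ?_⟩
    have h1 : g⁻¹ * q * g ∈ OO z := by
      have := oo_conj (inv_comm hg) hq
      rwa [inv_inv] at this
    rcases hx2 _ h1 with k | k
    · left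
      calc q * (g * x * g⁻¹) = g * (g⁻¹ * q * g * x) * g⁻¹ := by group
        _ = g * x * g⁻¹ * q := by rw [k]; group
    · right
      calc q * (g * x * g⁻¹) = g * (g⁻¹ * q * g * x) * g⁻¹ := by group
        _ = g * z * x * g⁻¹ * q := by rw [k]; group
        _ = z * (g * x * g⁻¹) * q := by rw [hg]; group
  · exact ⟨hs, fun q hqO => (eqv s q).1 (hq q hqO)⟩

/-- two involutions whose product has order dividing `4` generate a `2`-group -/
theorem isPGroup_pair {H : Type*} [Group H] {t s : H} (ht : t * t = 1) (hs : s * s = 1)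
    (h : (t * s) ^ 4 = 1) : IsPGroup 2 (Subgroup.closure {t, s} : Subgroup H) := by
  have htinv : t⁻¹ = t := inv_eq_of_mul_eq_one_left ht
  have hsinv : s⁻¹ = s := inv_eq_of_mul_eq_one_left hs
  have hconj : t * (t * s) * t⁻¹ = (t * s)⁻¹ := by
    rw [mul_inv_rev, hsinv, htinv]
    calc t * (t * s) * t = (t * t) * s * t := by group
      _ = s * t := by rw [ht, one_mul]
  have h1 : IsPGroup 2 (zpowers (t * s)) := by
    rintro ⟨x, hx⟩
    obtain ⟨k, rfl⟩ := mem_zpowers_iff.mp hx
    refine ⟨2, Subtype.ext ?_⟩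
    change ((t * s) ^ k) ^ (2 ^ 2) = 1
    have : ((t * s) ^ k) ^ (2 ^ 2) = ((t * s) ^ 4) ^ k := by
      rw [← zpow_natCast, ← zpow_mul, ← zpow_natCast, ← zpow_mul, mul_comm]
      norm_num
    rw [this, h, one_zpow]
  have h2 : IsPGroup 2 (zpowers t) := by
    rintro ⟨x, hx⟩
    obtain ⟨k, rfl⟩ := mem_zpowers_iff.mp hx
    refine ⟨1, Subtype.ext ?_⟩
    change (t ^ k) ^ (2 ^ 1) = 1
    rw [pow_one, ← zpow_natCast, ← zpow_mul, mul_comm, zpow_mul, zpow_natCast, pow_two, ht,
      one_zpow]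
  have hn : zpowers t ≤ normalizer (zpowers (t * s) : Set H) := by
    rw [zpowers_le]
    refine mem_normalizer_of ?_ ?_
    · intro m hm
      obtain ⟨k, rfl⟩ := mem_zpowers_iff.mp hm
      rw [← conj_zpow, hconj]
      exact zpow_mem (inv_mem (mem_zpowers _)) k
    · intro m hm
      obtain ⟨k, rfl⟩ := mem_zpowers_iff.mp hm
      have e : t⁻¹ * (t * s) ^ k * t = t * (t * s) ^ k * t⁻¹ := by rw [htinv]
      rw [e, ← conj_zpow, hconj]
      exact zpow_mem (inv_mem (mem_zpowers _)) k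
  have h3 := IsPGroup.to_sup_of_normal_right' h2 h1 hn
  refine h3.to_le ?_
  rw [closure_le]
  rintro x (rfl | hx)
  · exact mem_sup_left (mem_zpowers _)
  · rw [Set.mem_singleton_iff] at hx
    subst hx
    have e : t * (t * x) = x := by rw [← mul_assoc, ht, one_mul]
    have h5 : t * (t * x) ∈ zpowers t ⊔ zpowers (t * x) :=
      mul_mem (mem_sup_left (mem_zpowers _)) (mem_sup_right (mem_zpowers _))
    rw [SetLike.mem_coe]
    rwa [e] at h5

/-- `hB` (Baer–Suzuki in `C(z)`) -/
theorem hB [Finite G] : ∀ t : G, t * z = z * t → t * t = 1 →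
    (∀ g, g * z = z * g → (t * (g * t * g⁻¹)) ^ 4 = 1) → t ∈ OO z := by
  intro t htz htt hg
  have key : (⟨t, mem_c.2 htz⟩ : centralizer ({z} : Set G)) ∈
      Cfsg.pCore 2 (centralizer ({z} : Set G)) := by
    refine Cfsg.Agent.Involutions.BaerSuzuki.mem_pCore_of_conj_pairs _ fun g => ?_
    refine isPGroup_pair (Subtype.ext htt) ?_ ?_
    · apply Subtype.ext
      change (g : G) * t * (g : G)⁻¹ * (g * t * (g : G)⁻¹) = 1
      calc (g : G) * t * (g : G)⁻¹ * (g * t * (g : G)⁻¹) = g * (t * t) * (g : G)⁻¹ := by group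
        _ = 1 := by rw [htt]; group
    · apply Subtype.ext
      exact hg g (mem_c.1 g.2)
  exact mem_map.mpr ⟨_, key, rfl⟩

/-- `|Z(O z)| = 4` and the remaining fields of `Lin` -/
theorem lin_of [Finite G] (h : Cfg OO z a) (hch : Ch G) (hd : Dp OO z d) (hdq : d * d = 1)
    (h1 : d ≠ 1) (h2 : d ≠ z) : Lin OO z a d := by
  have hzz := h.zz
  have hdz := h.comm d hd.1
  have four : ∀ x, Dp OO z x → x = 1 ∨ x = z ∨ x = d ∨ x = z * d := by
    intro x hx
    rcases Four.four h (hC h hch) hB hx hd with (k | k) | (k | k) | (k | k)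
    · exact Or.inl k
    · exact Or.inr (Or.inl k)
    · exact absurd k h1
    · exact absurd k h2
    · right; right; left
      calc x = x * d * d := by rw [mul_assoc, hdq, mul_one]
        _ = d := by rw [k, one_mul]
    · right; right; right
      calc x = x * d * d := by rw [mul_assoc, hdq, mul_one]
        _ = z * d := by rw [k]
  have hsq : ∀ x, Dp OO z x → x * x = 1 := by
    intro x hx
    rcases four x hx with k | k | k | k <;> rw [k]
    · simp
    · exact hzz
    · exact hdq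
    · calc z * d * (z * d) = z * (d * z) * d := by group
        _ = z * z * (d * d) := by rw [hdz]; group
        _ = 1 := by rw [hzz, hdq, one_mul]
  have mov : ∀ x, x * z = z * x → ∀ y, Dp OO z y → x * y * x⁻¹ = y ∨ x * y * x⁻¹ = z * y := by
    intro x hxz y hy
    have hxd : x * d * x⁻¹ = d ∨ x * d * x⁻¹ = z * d := by
      rcases four _ (h.eqv.dp_conj hd hxz) with k | k | k | k
      · exfalso; apply h1
        have : x * d * x⁻¹ = x * 1 * x⁻¹ := by rw [k]; group
        exact mul_left_cancel (mul_right_cancel this)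
      · exfalso; apply h2
        have : x * d * x⁻¹ = x * z * x⁻¹ := by rw [k, hxz]; group
        exact mul_left_cancel (mul_right_cancel this)
      · exact Or.inl k
      · exact Or.inr k
    have hxz' : x * z * x⁻¹ = z := by rw [hxz]; group
    rcases four y hy with k | k | k | k <;> rw [k]
    · left; group
    · left; exact hxz'
    · exact hxd
    · have e : x * (z * d) * x⁻¹ = x * z * x⁻¹ * (x * d * x⁻¹) := by group
      rw [e, hxz']
      rcases hxd with k' | k' <;> rw [k']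
      · left; rfl
      · right; rfl
  refine ⟨h, hd, hdq, h1, h2, four, ?_⟩
  intro s hs hq
  refine mem_of_set (K := {s | s * z = z * s ∧ ∀ q ∈ OO z, Dp OO z (q * s * q⁻¹ * s⁻¹)})
    ?_ ?_ ?_ ?_ ?_ ?_ ⟨hs, hq⟩
  · refine ⟨by simp, fun q _ => ?_⟩
    have := dp_mul h.dz (dp_inv h.dz)
    rw [mul_inv_cancel] at this
    have e : q * 1 * q⁻¹ * (1 : G)⁻¹ = 1 := by group
    rw [e]; exact this
  · rintro x ⟨hx1, hx2⟩ y ⟨hy1, hy2⟩
    refine ⟨mul_comm' hx1 hy1, fun q hqO => ?_⟩
    have e : q * (x * y) * q⁻¹ * (x * y)⁻¹ =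
        q * x * q⁻¹ * x⁻¹ * (x * (q * y * q⁻¹ * y⁻¹) * x⁻¹) := by group
    rw [e]
    exact dp_mul (hx2 q hqO) (h.eqv.dp_conj (hy2 q hqO) hx1)
  · rintro x ⟨hx1, hx2⟩
    refine ⟨inv_comm hx1, fun q hqO => ?_⟩
    have e : q * x⁻¹ * q⁻¹ * x⁻¹⁻¹ = x⁻¹ * (q * x * q⁻¹ * x⁻¹)⁻¹ * x⁻¹⁻¹ := by group
    rw [e]
    exact h.eqv.dp_conj (dp_inv (hx2 q hqO)) (inv_comm hx1)
  · rintro x ⟨hx1, hx2⟩
    have hxx : x * x ∈ OO z := by
      refine hC h hch _ (mul_comm' hx1 hx1) fun q hqO => ?_
      set y := q * x * q⁻¹ * x⁻¹ with hy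
      have hyD := hx2 q hqO
      have e : q * (x * x) * q⁻¹ * (x * x)⁻¹ = y * (x * y * x⁻¹) := by rw [hy]; group
      have hyz := h.comm y hyD.1
      rw [e]
      rcases mov x hx1 y hyD with k | k <;> rw [k]
      · left; exact hsq y hyD
      · right; rw [← mul_assoc, hyz, mul_assoc, hsq y hyD, mul_one]
    obtain ⟨k, hk⟩ := pow_of_mem hxx
    refine ⟨k + 1, ?_⟩
    rw [pow_succ', pow_mul, pow_two]; exact hk
  · rintro x ⟨hx1, _⟩; exact hx1
  · rintro g hg x ⟨hx1, hx2⟩
    refine ⟨mul_comm' (mul_comm' hg hx1) (inv_comm hg), fun q hqO => ?_⟩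
    have h3 : g⁻¹ * q * g ∈ OO z := by
      have := oo_conj (inv_comm hg) hqO
      rwa [inv_inv] at this
    have e : q * (g * x * g⁻¹) * q⁻¹ * (g * x * g⁻¹)⁻¹ =
        g * (g⁻¹ * q * g * x * (g⁻¹ * q * g)⁻¹ * x⁻¹) * g⁻¹ := by group
    rw [e]
    exact h.eqv.dp_conj (hx2 _ h3) hg

/-- `O₂(L)` is normalised by every element normalising `L` -/
theorem o2_normal {L : Subgroup G} {g : G} (hg : L.map (MulAut.conj g).toMonoidHom = L) {x : G}
    (hx : x ∈ o2 L) : g * x * g⁻¹ ∈ o2 L := by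
  have h1 := Cfsg.Agent.ZN.o2_map (MulAut.conj g).toMonoidHom (MulAut.conj g).injective L
  rw [hg] at h1
  rw [h1]
  exact ⟨x, hx, rfl⟩

theorem map_conj_eq {L : Subgroup G} {g : G} (h1 : ∀ x ∈ L, g * x * g⁻¹ ∈ L)
    (h2 : ∀ x ∈ L, g⁻¹ * x * g ∈ L) : L.map (MulAut.conj g).toMonoidHom = L := by
  ext x
  constructor
  · rintro ⟨y, hy, rfl⟩
    exact h1 y hy
  · intro hx
    refine ⟨g⁻¹ * x * g, h2 x hx, ?_⟩
    change g * (g⁻¹ * x * g) * g⁻¹ = x
    group

end Cfsg.Agent.Omega.FFTwoA.OTwo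

end

section


/-!
# FF-2a (7): `Z(O₂(C(z)))` has no involution outside `⟨z⟩`

bb OMEGA #12472 (helper9), with `|Z(O z)| ≤ 4` (#12111, helper146).
-/

set_option autoImplicit false

namespace Cfsg.Agent.Omega.FFTwoA.Final

open Subgroup Cfsg.Agent.ZN Cfsg.Agent.ZN.Block
open Cfsg.Agent.Omega.FFTwoA.Main Cfsg.Agent.Omega.FFTwoA.Four Cfsg.Agent.Omega.FFTwoA.Line
open Cfsg.Agent.Omega.FFTwoA.OTwo Cfsg.Agent.Omega.FFTwoA.Cases

universe u

variable {G : Type u} [Group G] {z a d : G}

/-- `C(z) ∩ C(d)` -/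
def CC (z d : G) : Subgroup G := centralizer ({z} : Set G) ⊓ centralizer ({d} : Set G)

theorem mem_cc {z d x : G} : x ∈ CC z d ↔ x * z = z * x ∧ x * d = d * x := by
  rw [CC, mem_inf, mem_c, mem_c]

/-- `C(z)` normalises `C(z) ∩ C(d)` -/
theorem cc_conj (h : Lin OO z a d) {g : G} (hg : g * z = z * g) {x : G} (hx : x ∈ CC z d) :
    g * x * g⁻¹ ∈ CC z d := by
  rw [mem_cc] at hx ⊢
  obtain ⟨h1, h2⟩ := hx
  refine ⟨mul_comm' (mul_comm' hg h1) (inv_comm hg), ?_⟩
  have hgi := inv_comm hg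
  have hgd : g⁻¹ * d * g = d ∨ g⁻¹ * d * g = z * d := by
    have := h.movD hgi
    rwa [inv_inv] at this
  have e : g * x * g⁻¹ * d = g * (x * (g⁻¹ * d * g)) * g⁻¹ := by group
  have e' : d * (g * x * g⁻¹) = g * ((g⁻¹ * d * g) * x) * g⁻¹ := by group
  rw [e, e']
  rcases hgd with k | k <;> rw [k]
  · rw [h2]
  · have : x * (z * d) = z * d * x := by rw [← mul_assoc, h1, mul_assoc, h2, mul_assoc]
    rw [this]

theorem cc_map (h : Lin OO z a d) {g : G} (hg : g * z = z * g) :
    (CC z d).map (MulAut.conj g).toMonoidHom = CC z d := by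
  refine map_conj_eq (fun x hx => cc_conj h hg hx) fun x hx => ?_
  have := cc_conj h (inv_comm hg) hx
  rwa [inv_inv] at this

theorem o2_cc_le (h : Lin OO z a d) : o2 (CC z d) ≤ OO z := by
  refine le_oo (Block.o2_isPGroup _) (fun x hx => (mem_cc.1 (Block.o2_le _ hx)).1) ?_
  intro g hg x hx
  exact o2_normal (cc_map h hg) hx

/-- the case `d ~ z` -/
theorem not_conj [Finite G] (h : Lin OO z a d) (g : G) (hg : g * z * g⁻¹ = d) : False := by
  obtain ⟨u, hu, huz, hud⟩ := h.exd
  have hun : ¬ u * d = d * u := by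
    intro k
    rw [hud] at k
    have : z * (d * u) = d * u := by rw [← mul_assoc]; exact k
    exact h.z1 (mul_eq_right.1 this)
  -- index of `CC z d` in `C(z)` is 2
  have hle1 : CC z d ≤ centralizer ({z} : Set G) := inf_le_left
  have hle2 : CC z d ≤ centralizer ({d} : Set G) := inf_le_right
  have hi : (CC z d).relIndex (centralizer ({z} : Set G)) = 2 := by
    rw [Subgroup.relIndex, Subgroup.index_eq_two_iff]
    refine ⟨⟨u, mem_c.2 huz⟩, ?_⟩
    rintro ⟨x, hx⟩
    rw [mem_c] at hx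
    rw [mem_subgroupOf, mem_subgroupOf]
    change Xor (x * u ∈ CC z d) (x ∈ CC z d)
    rw [mem_cc, mem_cc]
    have hxd := h.movD hx
    have huz' : x * u * z = z * (x * u) := mul_comm' hx huz
    rcases hxd with k | k <;> rw [mul_inv_eq_iff_eq_mul] at k
    · right
      refine ⟨⟨hx, k⟩, ?_⟩
      rintro ⟨_, k2⟩
      apply hun
      have : x * (u * d) = x * (d * u) := by
        calc x * (u * d) = x * u * d := by group
          _ = d * x * u := by rw [k2]; group
          _ = x * (d * u) := by rw [← k]; group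
      exact mul_left_cancel this
    · left
      refine ⟨⟨huz', ?_⟩, ?_⟩
      · calc x * u * d = x * (u * d) := by group
          _ = x * z * d * u := by rw [hud]; group
          _ = z * (x * d) * u := by rw [hx]; group
          _ = z * z * d * (x * u) := by rw [k]; group
          _ = d * (x * u) := by rw [h.zz, one_mul]
      · rintro ⟨_, k2⟩
        rw [k2] at k
        have : z * (d * x) = d * x := by rw [← mul_assoc]; exact k.symm
        exact h.z1 (mul_eq_right.1 this)
  have hcard : Nat.card (centralizer ({z} : Set G)) = Nat.card (centralizer ({d} : Set G)) := by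
    have : (centralizer ({z} : Set G)).map (MulAut.conj g).toMonoidHom =
        centralizer ({d} : Set G) := by
      ext x
      constructor
      · rintro ⟨y, hy, rfl⟩
        rw [SetLike.mem_coe, mem_c] at hy
        rw [mem_c]
        change g * y * g⁻¹ * d = d * (g * y * g⁻¹)
        rw [← hg]
        calc g * y * g⁻¹ * (g * z * g⁻¹) = g * (y * z) * g⁻¹ := by group
          _ = g * z * g⁻¹ * (g * y * g⁻¹) := by rw [hy]; group
      · intro hx
        rw [mem_c] at hx
        refine ⟨g⁻¹ * x * g, ?_, ?_⟩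
        · rw [SetLike.mem_coe, mem_c]
          rw [← hg] at hx
          calc g⁻¹ * x * g * z = g⁻¹ * (x * (g * z * g⁻¹)) * g := by group
            _ = z * (g⁻¹ * x * g) := by rw [hx]; group
        · change g * (g⁻¹ * x * g) * g⁻¹ = x
          group
    rw [← this]
    exact (Nat.card_congr (Subgroup.equivMapOfInjective _ _ (MulAut.conj g).injective).toEquiv)
  have hi2 : (CC z d).relIndex (centralizer ({d} : Set G)) = 2 := by
    have e1 := card_mul_relIndex' hle1
    have e2 := card_mul_relIndex' hle2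
    rw [hi] at e1
    rw [← hcard, ← e1] at e2
    exact Nat.eq_of_mul_eq_mul_left Nat.card_pos e2
  -- `CC z d` is normal in `C(d)`
  have hn : ((CC z d).subgroupOf (centralizer ({d} : Set G))).Normal :=
    Subgroup.normal_of_index_eq_two hi2
  have hconj : ∀ c, c * d = d * c → ∀ x ∈ CC z d, c * x * c⁻¹ ∈ CC z d := by
    intro c hc x hx
    have := hn.conj_mem ⟨x, hle2 hx⟩ (mem_subgroupOf.2 hx) ⟨c, mem_c.2 hc⟩
    exact mem_subgroupOf.1 this
  have ho2 : OO z ≤ o2 (CC z d) := by
    refine Block.le_o2 (isP z) ?_ ?_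
    · intro x hx
      rw [mem_cc]
      exact ⟨oo_comm hx, ((h.toCfg.dp_iff.1 h.dD).2 x hx).symm⟩
    · exact le_normalizer_of_forall fun l hl m hm => oo_conj (mem_cc.1 hl).1 hm
  have hO : ∀ c, c * d = d * c → ∀ x ∈ OO z, c * x * c⁻¹ ∈ OO z := by
    intro c hc x hx
    apply o2_cc_le h
    refine o2_normal (map_conj_eq (hconj c hc) ?_) (ho2 hx)
    intro y hy
    have := hconj c⁻¹ (inv_comm hc) y hy
    rwa [inv_inv] at this
  -- so `C(d) ≤ C(z)`
  obtain ⟨w, hw, hwa, _, _⟩ := h.w0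
  rw [MulAut.conj_apply] at hwa
  have hz : w * a * w⁻¹ * a⁻¹ = z := by rw [hwa]; group
  have hsub : ∀ c, c * d = d * c → c * z = z * c := by
    intro c hc
    have h1 := h.toCfg.comm_mem (hO c hc w hw.1) (hO c hc a h.aO)
    have e : c * w * c⁻¹ * (c * a * c⁻¹) * (c * w * c⁻¹)⁻¹ * (c * a * c⁻¹)⁻¹ =
        c * (w * a * w⁻¹ * a⁻¹) * c⁻¹ := by group
    rw [e, hz] at h1
    rcases h1 with k | k
    · exfalso
      apply h.z1
      have : c * z * c⁻¹ = c * 1 * c⁻¹ := by rw [k]; group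
      exact mul_left_cancel (mul_right_cancel this)
    · rw [mul_inv_eq_iff_eq_mul] at k; exact k
  have : (CC z d).relIndex (centralizer ({d} : Set G)) = 1 := by
    rw [Subgroup.relIndex_eq_one]
    intro x hx
    rw [mem_c] at hx
    exact mem_cc.2 ⟨hsub x hx, hx⟩
  rw [hi2] at this
  exact absurd this (by norm_num)

/-- `O₂(C(d)) ≤ O₂(C(z))` if `O₂(C(d)) ≤ C(z)` -/
theorem oo_le (h : Lin OO z a d) (hod : ∀ x ∈ OO d, x * z = z * x) : OO d ≤ OO z := by
  refine le_trans (Block.le_o2 (isP d) ?_ ?_) (o2_cc_le h)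
  · intro x hx
    exact mem_cc.2 ⟨hod x hx, oo_comm hx⟩
  · exact le_normalizer_of_forall fun l hl m hm => oo_conj (mem_cc.1 hl).2 hm

/-- the case `d ≁ z` -/
theorem conj_case [Finite G] (h : Lin OO z a d) (hch : Ch G)
    (hna : ∃ m, m * z = z * m ∧ ¬ m * a * m⁻¹ * a = a * (m * a * m⁻¹))
    (hod : ∀ x ∈ OO d, x * z = z * x) : False := by
  have hle := oo_le h hod
  have hdz : d * z = z * d := h.comm d h.dD.1
  have hzO : z ∈ OO d := by
    refine hch d h.dq h.d1 z hdz.symm fun q hq => (hod q hq).symm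
  refine b_one_false h hna ?_
  by_contra hcon
  push Not at hcon
  obtain ⟨c, hcd, hcz⟩ := hcon
  apply hcz
  -- `VC = Z(OO d)`
  set VC : Subgroup G := OO d ⊓ centralizer (OO d : Set G) with hVC
  have mV : ∀ x, x ∈ VC ↔ x ∈ OO d ∧ ∀ y ∈ OO d, y * x = x * y := by
    intro x
    rw [hVC, mem_inf, mem_centralizer_iff]
    exact Iff.rfl
  have hzV : z ∈ VC := (mV z).2 ⟨hzO, fun y hy => hod y hy⟩
  have hVn : ∀ c, c * d = d * c → ∀ x ∈ VC, c * x * c⁻¹ ∈ VC := by
    intro c hc x hx
    rw [mV] at hx ⊢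
    refine ⟨oo_conj hc hx.1, fun y hy => ?_⟩
    have h1 : c⁻¹ * y * c ∈ OO d := by
      have := oo_conj (inv_comm hc) hy
      rwa [inv_inv] at this
    have h2 := hx.2 _ h1
    calc y * (c * x * c⁻¹) = c * (c⁻¹ * y * c * x) * c⁻¹ := by group
      _ = c * x * c⁻¹ * y := by rw [h2]; group
  have hcomm := fun {v : G} (hv : v ∈ VC) {m : G} (hm : m * z = z * m) =>
    b_two_comm h hna VC (fun x hx y hy => ((mV y).1 hy).2 x ((mV x).1 hx).1) hVn hzV
      (fun x hx => hle ((mV x).1 hx).1) hv hm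
  -- `KC = C(d) ∩ C(VC)`
  set KC : Subgroup G := centralizer ({d} : Set G) ⊓ centralizer (VC : Set G) with hKC
  have mK : ∀ x, x ∈ KC ↔ x * d = d * x ∧ ∀ y ∈ VC, y * x = x * y := by
    intro x
    rw [hKC, mem_inf, mem_c, mem_centralizer_iff]
    exact Iff.rfl
  have hKn : ∀ c, c * d = d * c → ∀ x ∈ KC, c * x * c⁻¹ ∈ KC := by
    intro c hc x hx
    rw [mK] at hx ⊢
    refine ⟨mul_comm' (mul_comm' hc hx.1) (inv_comm hc), fun y hy => ?_⟩
    have h1 : c⁻¹ * y * c ∈ VC := by
      have := hVn c⁻¹ (inv_comm hc) y hy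
      rwa [inv_inv] at this
    have h2 := hx.2 _ h1
    calc y * (c * x * c⁻¹) = c * (c⁻¹ * y * c * x) * c⁻¹ := by group
      _ = c * x * c⁻¹ * y := by rw [h2]; group
  have hKz : ∀ x ∈ KC, x * z = z * x := fun x hx => (((mK x).1 hx).2 z hzV).symm
  have hO1 : OO z ⊓ KC ≤ o2 KC := by
    refine Block.le_o2 ((isP z).to_le inf_le_left) inf_le_right ?_
    refine le_normalizer_of_forall fun l hl m hm => ?_
    have hm' := mem_inf.1 hm
    exact mem_inf.2 ⟨oo_conj (hKz l hl) hm'.1, mul_mem (mul_mem hl hm'.2) (inv_mem hl)⟩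
  have hO2 : o2 KC ≤ OO d := by
    refine le_oo (Block.o2_isPGroup _) (fun x hx => ((mK x).1 (Block.o2_le _ hx)).1) ?_
    intro g hg x hx
    refine o2_normal (map_conj_eq (hKn g hg) ?_) hx
    intro y hy
    have := hKn g⁻¹ (inv_comm hg) y hy
    rwa [inv_inv] at this
  have haO : ∀ m, m * z = z * m → m * a * m⁻¹ ∈ OO d := by
    intro m hm
    apply hO2
    apply hO1
    have h1 : m * a * m⁻¹ ∈ OO z := oo_conj hm h.aO
    refine ⟨h1, (mK _).2 ⟨((h.toCfg.dp_iff.1 h.dD).2 _ h1).symm, fun y hy => hcomm hy hm⟩⟩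
  obtain ⟨m, hm, hmn⟩ := hna
  have ha1 := haO m hm
  have ha2 := haO 1 (by simp)
  have e1 : (1 : G) * a * (1 : G)⁻¹ = a := by group
  rw [e1] at ha2
  have hci := inv_comm hcd
  have k1 := h.toCfg.comm_mem (hle ha1) (hle ha2)
  have k2 := h.toCfg.comm_mem (hle (oo_conj hci ha1)) (hle (oo_conj hci ha2))
  have e2 : c⁻¹ * (m * a * m⁻¹) * c⁻¹⁻¹ * (c⁻¹ * a * c⁻¹⁻¹) * (c⁻¹ * (m * a * m⁻¹) * c⁻¹⁻¹)⁻¹ *
      (c⁻¹ * a * c⁻¹⁻¹)⁻¹ = c⁻¹ * (m * a * m⁻¹ * a * (m * a * m⁻¹)⁻¹ * a⁻¹) * c := by group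
  rw [e2] at k2
  have k3 : m * a * m⁻¹ * a * (m * a * m⁻¹)⁻¹ * a⁻¹ = z := by
    rcases k1 with k | k
    · exfalso
      apply hmn
      rw [mul_inv_eq_one, mul_inv_eq_iff_eq_mul] at k
      exact k
    · exact k
  rw [k3] at k2
  rcases k2 with k | k
  · exfalso
    apply h.z1
    have : c⁻¹ * z * c = c⁻¹ * 1 * c := by rw [k]; group
    exact mul_left_cancel (mul_right_cancel this)
  · calc c * z = c * (c⁻¹ * z * c) := by rw [k]
      _ = z * c := by group

end Cfsg.Agent.Omega.FFTwoA.Final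

end

section


set_option autoImplicit false

namespace Cfsg.Agent.Omega.FFTwoA.SylA

open Subgroup Cfsg.Agent.ZN Cfsg.Agent.ZN.Block
open Cfsg.Agent.Omega.FFTwoA.OTwo

universe u

variable {G : Type u} [Group G]

theorem od_le [Finite G] {z d : G} (S : Sylow 2 G)
    (hS : (S : Subgroup G) ≤ centralizer ({z} : Set G))
    (hZ : ∀ x ∈ (S : Subgroup G), (∀ y ∈ (S : Subgroup G), x * y = y * x) → x * x = 1 →
      x = 1 ∨ x = z) (hdq : d * d = 1) (hd1 : d ≠ 1)
    (hmov : ∀ u, u * z = z * u → u * d * u⁻¹ = d ∨ u * d * u⁻¹ = z * d)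
    (hne : ∀ g, g * z * g⁻¹ ≠ d) : OO d ≤ centralizer ({z} : Set G) := by
  classical
  have : Fact (Nat.Prime 2) := ⟨Nat.prime_two⟩
  by_contra hcon
  set T0 : Subgroup G := (S : Subgroup G) ⊓ centralizer ({d} : Set G) with hT0
  have hT0S : T0 ≤ (S : Subgroup G) := inf_le_left
  have hT0d : T0 ≤ centralizer ({d} : Set G) := inf_le_right
  have mT : ∀ x, x ∈ T0 ↔ x ∈ (S : Subgroup G) ∧ x * d = d * x := by
    intro x; rw [hT0, mem_inf, mem_c]
  have hcard : Nat.card (S : Subgroup G) ≤ 2 * Nat.card T0 := by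
    have e1 := card_mul_relIndex' hT0S
    by_cases hall : ∀ x ∈ (S : Subgroup G), x * d = d * x
    · have : T0 = (S : Subgroup G) := le_antisymm hT0S fun x hx => (mT x).2 ⟨hx, hall x hx⟩
      rw [this]; omega
    · push Not at hall
      obtain ⟨u, hu, hun⟩ := hall
      have hi : T0.relIndex (S : Subgroup G) = 2 := by
        rw [Subgroup.relIndex, Subgroup.index_eq_two_iff]
        refine ⟨⟨u, hu⟩, ?_⟩
        rintro ⟨x, hx⟩
        rw [mem_subgroupOf, mem_subgroupOf]
        change Xor (x * u ∈ T0) (x ∈ T0)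
        have huz := mem_c.1 (hS hu)
        have hxz := mem_c.1 (hS hx)
        have hud : u * d = z * d * u := by
          rcases hmov u huz with k | k <;> rw [mul_inv_eq_iff_eq_mul] at k
          · exact absurd k hun
          · exact k
        have hz1 : z ≠ 1 := by
          rintro rfl
          apply hun; rw [hud]; simp
        rw [mT, mT]
        rcases hmov x hxz with k | k <;> rw [mul_inv_eq_iff_eq_mul] at k
        · right
          refine ⟨⟨hx, k⟩, ?_⟩
          rintro ⟨_, k2⟩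
          apply hun
          have : x * (u * d) = x * (d * u) := by
            calc x * (u * d) = x * u * d := by group
              _ = d * x * u := by rw [k2]; group
              _ = x * (d * u) := by rw [← k]; group
          exact mul_left_cancel this
        · left
          have hzz : z * z = 1 := by
            have h1 : x * (x * d * x⁻¹) * x⁻¹ = d ∨ x * (x * d * x⁻¹) * x⁻¹ = z * d := by
              have := hmov (x * x) (mul_comm' hxz hxz)
              have e : x * x * d * (x * x)⁻¹ = x * (x * d * x⁻¹) * x⁻¹ := by group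
              rwa [e] at this
            have e2 : x * (x * d * x⁻¹) * x⁻¹ = z * z * d := by
              have e3 : x * d * x⁻¹ = z * d := by rw [k]; group
              rw [e3]
              calc x * (z * d) * x⁻¹ = x * z * d * x⁻¹ := by group
                _ = z * (x * d * x⁻¹) := by rw [hxz]; group
                _ = z * z * d := by rw [e3]; group
            rw [e2] at h1
            rcases h1 with h1 | h1
            · exact mul_eq_right.1 h1
            · exfalso
              have h2 := mul_right_cancel h1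
              exact hz1 (mul_eq_left.1 h2)
          refine ⟨⟨mul_mem hx hu, ?_⟩, ?_⟩
          · calc x * u * d = x * (u * d) := by group
              _ = x * z * d * u := by rw [hud]; group
              _ = z * (x * d) * u := by rw [hxz]; group
              _ = z * z * d * (x * u) := by rw [k]; group
              _ = d * (x * u) := by rw [hzz, one_mul]
          · rintro ⟨_, k2⟩
            rw [k2] at k
            have : z * (d * x) = d * x := by rw [← mul_assoc]; exact k.symm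
            exact hz1 (mul_eq_right.1 this)
      rw [hi] at e1; omega
  have hTp : IsPGroup 2 T0 := S.2.to_le hT0S
  have hTn : T0 ≤ normalizer (OO d : Set G) := le_normalizer_of_forall fun l hl m hm =>
    oo_conj (mem_c.1 (hT0d hl)) hm
  have hP0 : IsPGroup 2 (T0 ⊔ OO d : Subgroup G) := IsPGroup.to_sup_of_normal_right' hTp (isP d) hTn
  have hP0c : (T0 ⊔ OO d : Subgroup G) ≤ centralizer ({d} : Set G) :=
    sup_le hT0d fun x hx => mem_c.2 (oo_comm hx)
  have hrel : T0.relIndex (T0 ⊔ OO d) ≠ 1 := by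
    intro k
    rw [Subgroup.relIndex_eq_one] at k
    exact hcon ((le_sup_right.trans k).trans (hT0S.trans hS))
  have e1 := card_mul_relIndex' (le_sup_left : T0 ≤ T0 ⊔ OO d)
  have hrel0 : T0.relIndex (T0 ⊔ OO d) ≠ 0 := by
    intro k
    rw [k, mul_zero] at e1
    exact Nat.card_pos.ne e1
  have hge : Nat.card (S : Subgroup G) ≤ Nat.card (T0 ⊔ OO d : Subgroup G) := by
    rw [← e1]
    have : 2 ≤ T0.relIndex (T0 ⊔ OO d) := by omega
    calc Nat.card (S : Subgroup G) ≤ 2 * Nat.card T0 := hcard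
      _ = Nat.card T0 * 2 := mul_comm _ _
      _ ≤ _ := Nat.mul_le_mul_left _ this
  obtain ⟨Q, hQ⟩ := hP0.exists_le_sylow
  have hQc : Nat.card (Q : Subgroup G) = Nat.card (S : Subgroup G) := by
    rw [Q.card_eq_multiplicity, S.card_eq_multiplicity]
  have hQe : (T0 ⊔ OO d : Subgroup G) = Q := Subgroup.eq_of_le_of_card_ge hQ (by rw [hQc]; exact hge)
  obtain ⟨g, hg⟩ := MulAction.exists_smul_eq G S Q
  have hmem : ∀ x, x ∈ (S : Subgroup G) → g * x * g⁻¹ ∈ (Q : Subgroup G) := by
    intro x hx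
    rw [← hg]
    exact Subgroup.smul_mem_pointwise_smul x (MulAut.conj g) _ hx
  have hmem' : ∀ y, y ∈ (Q : Subgroup G) → g⁻¹ * y * g ∈ (S : Subgroup G) := by
    intro y hy
    rw [← hg] at hy
    obtain ⟨x, hx, rfl⟩ := hy
    change g⁻¹ * (g * x * g⁻¹) * g ∈ (S : Subgroup G)
    have : g⁻¹ * (g * x * g⁻¹) * g = x := by group
    rw [this]; exact hx
  have hdQ : d ∈ (Q : Subgroup G) := by
    rw [← hQe]
    exact mem_sup_right (self_mem hdq)
  have hQd : ∀ y ∈ (Q : Subgroup G), y * d = d * y := by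
    intro y hy
    rw [← hQe] at hy
    exact mem_c.1 (hP0c hy)
  have h3 : ∀ y ∈ (S : Subgroup G), g⁻¹ * d * g * y = y * (g⁻¹ * d * g) := by
    intro y hy
    have := hQd _ (hmem y hy)
    calc g⁻¹ * d * g * y = g⁻¹ * (d * (g * y * g⁻¹)) * g := by group
      _ = y * (g⁻¹ * d * g) := by rw [← this]; group
  have h4 : g⁻¹ * d * g * (g⁻¹ * d * g) = 1 := by
    calc g⁻¹ * d * g * (g⁻¹ * d * g) = g⁻¹ * (d * d) * g := by group
      _ = 1 := by rw [hdq]; group
  rcases hZ (g⁻¹ * d * g) (hmem' d hdQ) h3 h4 with k | k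
  · apply hd1
    calc d = g * (g⁻¹ * d * g) * g⁻¹ := by group
      _ = 1 := by rw [k]; group
  · apply hne g
    calc g * z * g⁻¹ = g * (g⁻¹ * d * g) * g⁻¹ := by rw [k]
      _ = d := by group

end Cfsg.Agent.Omega.FFTwoA.SylA

end

section


/-!
# FF-2a (7): the final statement
-/

set_option autoImplicit false

namespace Cfsg.Agent.Omega.FFTwoA.Kill

open Subgroup Cfsg.Agent.ZN Cfsg.Agent.ZN.Block
open Cfsg.Agent.Omega.FFTwoA.Main Cfsg.Agent.Omega.FFTwoA.Line
open Cfsg.Agent.Omega.FFTwoA.OTwo Cfsg.Agent.Omega.FFTwoA.Final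

universe u

variable {G : Type u} [Group G] {z a : G}

/-- **FF-2a (7)**: the only involution of `Z(O₂(C(z)))` is `z`. -/
theorem kill [Finite G] (h : Cfg OO z a) (S : Sylow 2 G)
    (hS : (S : Subgroup G) ≤ centralizer ({z} : Set G))
    (hZ : ∀ x ∈ (S : Subgroup G), (∀ y ∈ (S : Subgroup G), x * y = y * x) → x * x = 1 →
      x = 1 ∨ x = z)
    (hch : Ch G) (hna : ∃ m, m * z = z * m ∧ ¬ m * a * m⁻¹ * a = a * (m * a * m⁻¹)) :
    ∀ d, Dp OO z d → d * d = 1 → d = 1 ∨ d = z := by
  intro d hd hdq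
  by_contra hcon
  push Not at hcon
  obtain ⟨h1, h2⟩ := hcon
  have hl := lin_of h hch hd hdq h1 h2
  by_cases hc : ∃ g, g * z * g⁻¹ = d
  · obtain ⟨g, hg⟩ := hc
    exact not_conj hl g hg
  · push Not at hc
    have hod := SylA.od_le S hS hZ hdq h1 (fun u hu => hl.movD hu) hc
    exact conj_case hl hch hna fun x hx => mem_c.1 (hod hx)

end Cfsg.Agent.Omega.FFTwoA.Kill

end

end
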